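import Cfsg.Agent.Bry.X2

/-!
# The `2`-length of a solvable group is at most the derived length of a Sylow `2`-subgroup
-/

set_option autoImplicit false
set_option linter.style.haveILetI false

namespace Cfsg.Agent.Bry

open Module Subgroup Cfsg.Agent.PLocal Cfsg.Agent.PLocal.HH Cfsg.Agent.FT.Rep Cfsg.Agent.SolvLin
open scoped commutatorElement

universe u v

theorem Ind.pi_comm {Γ M V : Type u} [Group Γ] [Group M] [AddCommGroup V] [Module (ZMod 2) V] {k : ℕ}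
    {X T : Subgroup Γ} {σ : M →* End (ZMod 2) V} {f : X →* M} {π : Γ → V} (h : Ind k X T σ f π)
    (s : X) {w : Γ} (hw : w ∈ T) : π ⁅(s : Γ), w⁆ = σ (f s) (π w) - π w := by
  rw [eq_sub_iff_add_eq, ← h.conj s w hw, commutatorElement_def,
    ← h.add _ (mul_mem (conj_mem (h.nT s.2) hw) (inv_mem hw)) w hw, inv_mul_cancel_right]

theorem lin_der (n : ℕ) : ∀ {Γ W : Type u} [Group Γ] [Finite Γ] [Group.IsSolvable Γ] [AddCommGroup W]
    [Module (ZMod 2) W] [Finite W] (ρ : Γ →* End (ZMod 2) W), Function.Injective ρ → pCore 2 Γ = ⊥ →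
    (∀ S : Subgroup Γ, IsPGroup 2 S → ∀ w, w ∈ kv ρ (n + 1) S) → PLengthLE 2 n Γ := by
  induction n with
  | zero =>
    intro Γ W _ _ _ _ _ _ ρ hρ _ hT
    refine pLengthLE_zero_of_expLE fun y ⟨j, hj⟩ => hρ (LinearMap.ext fun w => ?_)
    simpa [sub_eq_zero] using mem_kv_zero.1
      (mem_kv.1 (hT _ (isPGroup_zpowers_of_pow_eq_one hj) w) y (mem_zpowers y))
  | succ n ih =>
  intro Γ W _ _ _ _ _ _ ρ hρ hO hT
  by_contra hlen
  obtain ⟨X, T, M, V, _, _, _, _, _, σ₀, f₀, π, H⟩ := setup hlen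
  haveI := Group.isSolvable_of_surjective H.surj
  have hU : closure {b | ∃ S ≤ X, IsPGroup 2 S ∧ T ≤ S ∧ b ∈ ds S (n + 1) ∧ ∃ s ∈ ds S n, ∃ w ∈ T,
      b = ⁅s, w⁆} = T := by
    refine H.irr _ ((closure_le _).2 ?_) (le_normalizer_closure_iff.2 ?_) ?_
    · rintro _ ⟨S, hS, -, -, -, s, hs, w, hw, rfl⟩
      exact mul_mem (conj_mem (H.nT (hS (ds_le S n hs))) hw) (inv_mem hw)
    · rintro x hx _ ⟨S, hS, h1, h2, h3, s, hs, w, hw, rfl⟩
      have h4 : ∀ g ∈ S, (MulAut.conj x).toMonoidHom g ∈ S.map (MulAut.conj x).toMonoidHom :=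
        fun g hg => mem_map_of_mem _ hg
      refine subset_closure ⟨S.map (MulAut.conj x).toMonoidHom, ?_, h1.map _, fun t ht =>
        ⟨x⁻¹ * t * x⁻¹⁻¹, h2 (conj_mem (H.nT (inv_mem hx)) ht), by simp [mul_assoc]⟩, ds_hom _ h4 h3,
        _, ds_hom _ h4 hs, _, conj_mem (H.nT hx) hw, conjugate_commutatorElement _ _ _⟩
      rintro _ ⟨g, hg, rfl⟩
      exact mul_mem (mul_mem hx (hS hg)) (inv_mem hx)
    by_contra hc
    push Not at hc
    refine H.len (ih σ₀ H.inj H.core fun S' hS' v => ?_)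
    obtain ⟨S₀, h1, rfl⟩ := exists_isPGroup_map_eq f₀ H.surj hS'
    obtain ⟨w, hw, rfl⟩ := H.onto v
    have h2 : ∀ j, ∀ s ∈ ds S₀ j, (s : Γ) ∈ ds (T ⊔ S₀.map X.subtype) j := fun j s hs =>
      ds_hom X.subtype (fun g hg => mem_sup_right (mem_map_of_mem _ hg)) hs
    suffices key : ∀ m j, j + m = n → ∀ w ∈ T, w ∈ ds (T ⊔ S₀.map X.subtype) j →
        π w ∈ kv σ₀ (m + 1) (ds (S₀.map f₀) j) from key n 0 (by omega) w hw (mem_sup_left hw)
    intro m
    induction m with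
    | zero =>
      rintro j rfl w hw h3
      rw [mem_kv, ← ds_map]
      rintro _ ⟨s, hs, rfl⟩
      rw [← H.pi_comm s hw]
      exact mem_kv_zero.2 (hc _ (subset_closure ⟨_, sup_le H.le (map_subtype_le _),
        IsPGroup.to_sup_of_normal_left' H.two (h1.map _) ((map_subtype_le _).trans H.nT), le_sup_left,
        commutator_mem_commutator (h2 j s hs) h3, s, h2 j s hs, w, hw, rfl⟩))
    | succ m ih' =>
      intro j e w hw h3
      refine mem_kv.2 fun s' hs' => ?_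
      rw [← ds_map] at hs'
      obtain ⟨s, hs, rfl⟩ := hs'
      rw [← H.pi_comm s hw]
      exact ih' (j + 1) (by omega) _ (mul_mem (conj_mem (H.nT s.2) hw) (inv_mem hw))
        (commutator_mem_commutator (h2 j s hs) h3)
  obtain ⟨Ψ, hΨ⟩ := exists_end_ringHom_injective (ZMod 2) (AlgebraicClosure (ZMod 2)) W
  set ρ' := Ψ.toMonoidHom.comp ρ
  obtain ⟨B, L, Y, Γ', _, _, f, σ, q, Q, _, hBX, hBL, hfa, hσ, -, hp, hne⟩ :=
    reduce_fa ρ' (hΨ.comp hρ) hO H.le H.nT H.two H.ne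
  haveI := hfa.nt
  have key : ∀ S ≤ X, IsPGroup 2 S → ds S (n + 1) ≤ B ∧
      (im f (ds S (n + 1)) ≤ centralizer (Q : Set Γ') ∨
        ds S n ≤ B ∧ Exc Q (im f (S ⊓ B)) (im f (ds S n))) := fun S hS h2 => by
    obtain ⟨j, m, e, h3, h4⟩ := hp.level (Submodule.nontrivial_iff_ne_bot.1 hfa.nt)
      (fun g hg w hw => hσ ⟨g, hBL hg⟩ ⟨w, hw⟩ ▸ Subtype.prop _) hS h2 (N := n + 1 + 1) fun w _ => by
        have := kv_ringHom Ψ _ S 1 (hT S h2) w
        rwa [map_one] at this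
    refine ⟨(ds_anti S (by omega)).trans h3, (concl m (Y := ⊤) ⟨hfa, im_isPGroup f (h2.to_le inf_le_left),
      le_normalizer_of_normal, im_mono f (le_inf (ds_le S j) h3),
      im_normalizer f (inf_le_left.trans (norm_ds le_normalizer j)), top_ne_bot, fun _ _ _ _ => trivial,
      fun _ _ _ _ => trivial, fun w _ => kv_im hσ _ _ (h3.trans hBL) w (h4 w.2)⟩).imp (fun h5 => ?_) ?_⟩
    · rwa [← im_ds f (h3.trans hBL), ds_add, show j + m = n + 1 by omega] at h5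
    · rintro ⟨rfl, h5⟩
      obtain rfl : j = n := by omega
      exact ⟨h3, h5⟩
  have hTB : T ≤ B := hU.ge.trans ((closure_le _).2 fun b ⟨S, hS, h1, _, h3, _⟩ => (key S hS h1).1 h3)
  have gen : ∀ K : Subgroup Γ', (∀ b : L, ∀ S ≤ X, IsPGroup 2 S → T ≤ S → (b : Γ) ∈ ds S (n + 1) →
      ∀ s ∈ ds S n, ∀ w ∈ T, (b : Γ) = ⁅s, w⁆ → f b ∈ K) → im f T ≤ K := by
    rintro K hK _ ⟨t, ht, rfl⟩
    obtain ⟨t', ht', e⟩ := (hU.ge.trans ((closure_le _).2 fun b ⟨S, hS, h1, h2, h3, s, hs, w, hw, e⟩ =>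
      ⟨⟨b, hBL ((key S hS h1).1 h3)⟩, hK _ S hS h1 h2 h3 s hs w hw e, rfl⟩) :
      T ≤ (K.comap f).map L.subtype) ht
    exact (Subtype.ext e : t' = t) ▸ ht'
  refine hne hTB ((commutator_eq_bot_iff_le_centralizer.2 (le_centralizer_iff.1
    (gen _ fun b S hS h1 h2 h3 s hs w hw e => ?_))).le.trans bot_le)
  refine (key S hS h1).2.elim (fun h => h (mem_im f h3)) fun ⟨h4, h5⟩ => ?_
  let μ := QuotientGroup.mk' (centralizer (Q : Set Γ'))
  have := gen ((centralizer {μ (f ⟨s, hBL (h4 hs)⟩)}).comap μ) (fun b' S' hS' h1' h2' h3' s' hs' w' hw' e' =>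
    mem_centralizer_singleton_iff.2 (commutatorElement_eq_one_iff_mul_comm.1
      ((map_commutatorElement μ _ _).symm.trans ((QuotientGroup.eq_one_iff _).2 (h5.inv _ (mem_im f ?_) ?_ _
      (mem_im f hs)))))) (mem_im f (x := ⟨w, hBL (hTB hw)⟩) hw)
  · rw [show b = ⁅(⟨s, hBL (h4 hs)⟩ : L), ⟨w, hBL (hTB hw)⟩⁆ from Subtype.ext e, map_commutatorElement]
    exact (QuotientGroup.eq_one_iff _).1 ((map_commutatorElement μ _ _).trans
      (commutatorElement_eq_one_iff_mul_comm.2 (mem_centralizer_singleton_iff.1 this).symm))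
  · have : (b' : Γ) ∈ T := e' ▸ mul_mem (conj_mem (H.nT (hS' (ds_le S' n hs'))) hw') (inv_mem hw')
    exact ⟨h2 this, hTB this⟩
  · refine (key S' hS' h1').2.elim (fun h => pow_mem (h (mem_im f h3')) 2) fun ⟨h6, h7⟩ => h7.sq _ ?_
    rw [← im_commutator f (h6.trans hBL) (h6.trans hBL)]
    exact mem_im f h3'

theorem pLengthLE_of_ds {G : Type u} [Group G] [Finite G] [Group.IsSolvable G] {d : ℕ}
    (h : ∀ P : Sylow 2 G, derivedSeries (P : Subgroup G) d = ⊥) : PLengthLE 2 d G := by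
  have h1 : ∀ S : Subgroup G, IsPGroup 2 S → ds S d = ⊥ := fun S hS => by
    obtain ⟨P, hP⟩ := hS.exists_le_sylow
    refine le_bot_iff.1 ((ds_mono hP d).trans ?_)
    rw [ds_eq_map, ds_top, h P, Subgroup.map_bot]
  rcases d with _ | d
  · exact pLengthLE_zero_of_expLE fun y ⟨j, hj⟩ => by
      simpa using mem_bot.1 ((h1 _ (isPGroup_zpowers_of_pow_eq_one hj)).le (mem_zpowers y))
  obtain ⟨X₀, _, _, f₀, hEA₀, σ₀, hf₀, -, -, hσ₀, hval₀⟩ :=
    exists_hh_rep (isPConstrained_of_isPSolvable (isPSolvable_of_isSolvable (G := G) (p := 2)))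
  refine pLengthLE_succ_iff.2 (lin_der d σ₀ hσ₀ pCore_quotient_pPrimePCore fun S' hS' v => ?_)
  obtain ⟨S, hS, rfl⟩ := exists_isPGroup_map_eq _ (QuotientGroup.mk'_surjective _) hS'
  obtain ⟨P, hP, e⟩ := exists_isPGroup_map_eq f₀ hf₀
    (IsPGroup.to_sup_of_normal_left (Grp.pCore_isPGroup 2 X₀) (hS.map f₀))
  suffices key : ∀ m j, j + m = d + 1 → ∀ v : EA hEA₀, v.val ∈ ds (P.map f₀) j →
      v ∈ kv σ₀ m (ds (S.map (QuotientGroup.mk' _)) j) from
    key _ 0 (by omega) v (e.ge (mem_sup_left v.val_mem))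
  intro m
  induction m with
  | zero =>
    intro j e' v hv
    rw [show j = d + 1 from e', ← ds_map, h1 P hP, Subgroup.map_bot] at hv
    exact mem_kv_zero.2 (EA.val_eq_one_iff.1 hv)
  | succ m ih =>
    intro j e' v hv
    refine mem_kv.2 fun s' hs' => ?_
    rw [← ds_map] at hs'
    obtain ⟨s, hs, rfl⟩ := hs'
    refine ih (j + 1) (by omega) _ ?_
    have h2 := commutator_mem_commutator (ds_hom f₀ (L' := P.map f₀)
      (fun g hg => e.ge (mem_sup_right (mem_map_of_mem f₀ hg))) hs) hv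
    have h3 := EA.val_add (σ₀ (QuotientGroup.mk s) v - v) v
    rw [sub_add_cancel, hval₀, ← mul_inv_eq_iff_eq_mul] at h3
    exact h3 ▸ h2

end Cfsg.Agent.Bry
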