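import Cfsg.Agent.Bry.ExpRed

/-!
# The `2`-length of a solvable group is at most the `2`-exponent
-/

set_option autoImplicit false
set_option linter.style.haveILetI false

namespace Cfsg.Agent.Bry

open Module Subgroup Cfsg.Agent.PLocal Cfsg.Agent.PLocal.HH Cfsg.Agent.FT.Rep Cfsg.Agent.FGS.Gross
open scoped commutatorElement IsMulCommutative

universe u v

theorem reduce_fa {F : Type*} [Field F] [CharP F 2] [IsAlgClosed F] {W : Type v} [AddCommGroup W]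
    [Module F W] [FiniteDimensional F W] {Γ : Type u} [Group Γ] [Finite Γ] [Group.IsSolvable Γ]
    (ρ : Γ →* End F W) (hρ : Function.Injective ρ) (hO : pCore 2 Γ = ⊥) {X T : Subgroup Γ}
    (hTX : T ≤ X) (hXT : X ≤ normalizer (T : Set Γ)) (hT : IsPGroup 2 T) (h0 : T ≠ ⊥) :
    ∃ (B L : Subgroup Γ) (Y : Submodule F W) (Γ' : Type u) (_ : Group Γ') (_ : Finite Γ') (f : L →* Γ')
      (σ : Γ' →* End F Y) (q : ℕ) (Q : Subgroup Γ') (_ : Q.Normal), B ≤ X ∧ B ≤ L ∧ Fa σ q Q ∧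
      (∀ l w, (σ (f l) w : W) = ρ l w) ∧ Lift ρ 2 X B Y ∧ Pj ρ X B Y ∧
      (T ≤ B → ¬ ⁅Q, im f T⁆ ≤ zc Q) := by
  obtain ⟨q, hq⟩ : ∃ q : Nat.Primes, ¬ pCore (q : ℕ) Γ ≤ centralizer (T : Set Γ) := by
    by_contra h
    push Not at h
    have h1 : T ≤ fittingSubgroup Γ := (le_centralizer_iff.mp (by
      rw [Grp.fitting_eq_iSup_pCore]; exact iSup_le h)).trans (Grp.centralizer_fitting_le Γ)
    exact h0 (le_bot_iff.mp (hO ▸ Grp.le_pCore_of_le_fitting hT h1))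
  have hqp := Fact.mk q.2
  have h2q : 2 ≠ (q : ℕ) := fun h => hq (by rw [← h, hO]; exact bot_le)
  obtain ⟨B, Q, Z, Y, hBX, -, -, hQT, h, hl, hp, hne⟩ := two_step' ρ hρ h2q (Grp.pCore_isPGroup q Γ)
    (X := X) (D := T) le_normalizer_of_normal hTX hXT (Grp.coprime_card_of_isPGroup_of_ne h2q hT)
    (fun h => hq (commutator_eq_bot_iff_le_centralizer.mp h))
  obtain ⟨Γ', _, _, f, σ, hf, hfa, hσ, hZ⟩ := red_fa h q.2 h2q
  refine ⟨B, _, Y, Γ', _, inferInstance, f, σ, q, im f Q, Normal.map ((normal_subgroupOf_iff_le_normalizer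
    le_sup_right).2 (sup_le h.nQ le_normalizer)) f hf, hBX, le_sup_left, hfa, hσ, hl, hp,
    fun hTB e => hne hTB fun t ht => ?_⟩
  rw [← im_commutator f le_sup_right (hTB.trans le_sup_left), hQT] at e
  exact (hZ ⟨t, mem_sup_right ht⟩ ht).1 (e (mem_im f ht)).2

theorem Ind.pi_pow {Γ M V : Type u} [Group Γ] [Group M] [AddCommGroup V] [Module (ZMod 2) V] {k : ℕ}
    {X T : Subgroup Γ} {σ : M →* End (ZMod 2) V} {f : X →* M} {π : Γ → V} (h : Ind k X T σ f π)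
    (y : X) {w : Γ} (hw : w ∈ T) (m : ℕ) :
    π ((w * y) ^ m * ((y : Γ) ^ m)⁻¹) = (∑ i ∈ Finset.range m, σ (f y) ^ i) (π w) := by
  induction m with
  | zero =>
    have := h.add 1 (one_mem _) 1 (one_mem _)
    simpa using this
  | succ m ih =>
    have h1 := mul_pow_mem (h.nT y.2) hw m
    rw [show (w * y) ^ (m + 1) * ((y : Γ) ^ (m + 1))⁻¹ =
      w * (y * ((w * y) ^ m * ((y : Γ) ^ m)⁻¹) * (y : Γ)⁻¹) by rw [pow_succ', pow_succ]; group,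
      h.add _ hw _ (conj_mem (h.nT y.2) h1), h.conj y _ h1, ih, Finset.sum_range_succ', add_comm,
      LinearMap.add_apply, ← End.mul_apply, Finset.mul_sum]
    simp only [pow_succ', pow_zero, End.one_apply]

theorem lin_exp (n : ℕ) : ∀ {Γ W : Type u} [Group Γ] [Finite Γ] [Group.IsSolvable Γ] [AddCommGroup W]
    [Module (ZMod 2) W] [Finite W] (ρ : Γ →* End (ZMod 2) W), Function.Injective ρ → pCore 2 Γ = ⊥ →
    (∀ g : Γ, (∃ j, g ^ 2 ^ j = 1) → (ρ g - 1) ^ (2 ^ (n + 1) - 1) = 0) → PLengthLE 2 n Γ := by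
  induction n with
  | zero =>
    intro Γ W _ _ _ _ _ _ ρ hρ _ hT
    refine pLengthLE_zero_of_expLE fun y hy => hρ ?_
    simpa [sub_eq_zero] using hT y hy
  | succ n ih =>
  intro Γ W _ _ _ _ _ _ ρ hρ hO hT
  by_contra hlen
  obtain ⟨X, T, M, V, _, _, _, _, _, σ₀, f₀, π, H⟩ := setup hlen
  haveI := Group.isSolvable_of_surjective H.surj
  have h2 : ∀ y ∈ X, (∃ j, y ^ 2 ^ j = 1) → IsPGroup 2 (T ⊔ zpowers y : Subgroup Γ) :=
    fun y hy ⟨j, hj⟩ => IsPGroup.to_sup_of_normal_left' H.two (isPGroup_zpowers_of_pow_eq_one hj)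
      (zpowers_le.2 (H.nT hy))
  have h3 : ∀ y ∈ X, (∃ j, y ^ 2 ^ j = 1) → ∀ w ∈ T, ∃ j, (w * y) ^ 2 ^ j = 1 := fun y hy hj w hw =>
    isPGroup_subgroup_iff.1 (h2 y hy hj) _ (mul_mem (mem_sup_left hw) (mem_sup_right (mem_zpowers y)))
  have hU : closure {b | ∃ y ∈ X, (∃ j, y ^ 2 ^ j = 1) ∧ ∃ w ∈ T,
      b = (w * y) ^ 2 ^ (n + 1) * (y ^ 2 ^ (n + 1))⁻¹} = T := by
    refine H.irr _ ((closure_le _).2 ?_) (le_normalizer_closure_iff.2 ?_) ?_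
    · rintro _ ⟨y, hy, -, w, hw, rfl⟩
      exact mul_pow_mem (H.nT hy) hw _
    · rintro x hx _ ⟨y, hy, ⟨j, hj⟩, w, hw, rfl⟩
      refine subset_closure ⟨x * y * x⁻¹, mul_mem (mul_mem hx hy) (inv_mem hx),
        ⟨j, by rw [conj_pow, hj]; group⟩, x * w * x⁻¹, conj_mem (H.nT hx) hw, ?_⟩
      rw [conj_mul, conj_pow, conj_pow]
      group
    by_contra hc
    push Not at hc
    refine H.len (ih σ₀ H.inj H.core fun m hm => LinearMap.ext fun v => ?_)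
    obtain ⟨y, ⟨j, hj⟩, rfl⟩ := exists_lift_pElement f₀ H.surj hm
    obtain ⟨w, hw, rfl⟩ := H.onto v
    rw [sub_one_pow_eq_sum (F := ZMod 2) 2, ← H.pi_pow y hw]
    exact hc _ (subset_closure ⟨y, y.2, ⟨j, congrArg Subtype.val hj⟩, w, hw, rfl⟩)
  obtain ⟨Ψ, hΨ⟩ := exists_end_ringHom_injective (ZMod 2) (AlgebraicClosure (ZMod 2)) W
  set ρ' := Ψ.toMonoidHom.comp ρ
  obtain ⟨B, L, Y, Γ', _, _, f, σ, q, Q, _, hBX, hBL, hfa, hσ, hl, -, hne⟩ :=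
    reduce_fa ρ' (hΨ.comp hρ) hO H.le H.nT H.two H.ne
  obtain ⟨A, _, _, φ, hA, hker, hrefl, hpm⟩ := hfa.abs
  let ψ := φ.comp f
  have hY0 : Y ≠ ⊥ := Submodule.nontrivial_iff_ne_bot.1 hfa.nt
  have hlev : ∀ x ∈ X, (∃ j, x ^ 2 ^ j = 1) → ∃ (a m : ℕ) (hb : x ^ 2 ^ a ∈ B), a + m = n + 1 ∧
      (ψ ⟨_, hBL hb⟩ ^ 2 ^ m = 1 ∨ ∃ k, m = k + 1 ∧ Refl m (ψ ⟨_, hBL hb⟩) ∧ q = 2 ^ (m + 1) - 1) := by
    intro x hx hj
    have hT' : (ρ' x - 1) ^ (2 ^ (n + 1 + 1) - 1) = 0 := by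
      have : (ρ' x - 1) ^ (2 ^ (n + 1 + 1) - 1) = Ψ ((ρ x - 1) ^ (2 ^ (n + 1 + 1) - 1)) := by
        rw [map_pow, map_sub, map_one]; rfl
      rw [this, hT x hj, map_zero]
    have hxe : x ^ 2 ^ (n + 1 + 1) = 1 := hρ (by
      rw [map_pow, map_one, ← sub_eq_zero, ← sub_one_pow_char_pow (F := ZMod 2) 2,
        ← Nat.sub_add_cancel (Nat.two_pow_pos (n + 1 + 1)), pow_succ, hT x hj, zero_mul])
    obtain ⟨a, m, hae, hb, hw⟩ := hl.level hY0 hx hxe hT'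
    exact ⟨a, m, hb, Nat.succ.inj hae, hrefl _ m (LinearMap.ext fun w => Subtype.ext
      ((coe_sub_one_pow (hσ ⟨_, hBL hb⟩) _ w).trans (hw w w.2)))⟩
  have hB : ∀ x ∈ X, (∃ j, x ^ 2 ^ j = 1) → x ^ 2 ^ (n + 1) ∈ B := fun x hx hj => by
    obtain ⟨a, m, hb, e, -⟩ := hlev x hx hj
    rw [← e, pow_add, pow_mul]
    exact pow_mem hb _
  have hTB : T ≤ B := hU.ge.trans ((closure_le _).2 (by
    rintro _ ⟨y, hy, hj, w, hw, rfl⟩
    exact mul_mem (hB _ (mul_mem (H.le hw) hy) (h3 y hy hj w hw)) (inv_mem (hB y hy hj))))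
  set T' := im ψ T
  have hT' : IsPGroup 2 T' := im_isPGroup ψ H.two
  set Φ := (frattini T').map T'.subtype
  have main : ∀ y (hy : y ∈ X) (hj : ∃ j, y ^ 2 ^ j = 1), ∀ w (hw : w ∈ T),
      ψ ⟨_, hBL (hB y hy hj)⟩ ≠ 1 → ψ ⟨_, hBL (hB _ (mul_mem (H.le hw) hy) (h3 y hy hj w hw))⟩ *
        (ψ ⟨_, hBL (hB y hy hj)⟩)⁻¹ ∈ Φ := by
    intro y hy hj w hw h0
    have hpw : ∀ {x : Γ} {a m : ℕ} (h1 : x ^ 2 ^ a ∈ L) (h2 : x ^ 2 ^ (n + 1) ∈ L), a + m = n + 1 →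
        ψ ⟨_, h1⟩ ^ 2 ^ m = ψ ⟨_, h2⟩ := fun h1 h2 e => by
      rw [← map_pow]
      exact congrArg ψ (Subtype.ext (by simp only [SubmonoidClass.mk_pow, ← pow_mul, ← pow_add, e]))
    obtain ⟨a, m, hb, e, h4⟩ := hlev y hy hj
    obtain ⟨k, rfl, R, hq⟩ := h4.resolve_left fun h => h0 ((hpw _ _ e).symm.trans h)
    have hc := mul_pow_mem (H.nT hy) hw (2 ^ a)
    have hb' : (w * y) ^ 2 ^ a ∈ B := by simpa using mul_mem (hTB hc) hb
    have e1 : ψ ⟨_, hBL hb'⟩ = ψ ⟨_, hBL (hTB hc)⟩ * ψ ⟨_, hBL hb⟩ := by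
      rw [← map_mul]
      exact congrArg ψ (Subtype.ext (by simp))
    rw [← hpw (hBL hb) _ e, ← hpw (hBL hb') _ e, e1]
    refine key hA hT' ?_ (im_normalizer ψ (hBX.trans H.nT) (mem_im ψ hb)) R (mem_im ψ hc)
      (fun s hs h5 h6 => ?_) ?_
    · rintro _ ⟨t, ht, rfl⟩
      rw [← map_pow, show t ^ 4 = 1 from Subtype.ext (H.four t ht), map_one]
    · obtain ⟨s, rfl⟩ : s ∈ φ.range := (sup_le (by rintro _ ⟨t, -, rfl⟩; exact ⟨_, rfl⟩)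
        (zpowers_le.2 ⟨_, rfl⟩) : _ ≤ φ.range) hs
      have := hpm s (f ⟨_, hBL hb⟩ ^ 2 ^ (k + 1)) h5
      rw [map_pow] at this
      exact this R.sq h6 (hq ▸ R.card)
    rw [← e1]
    obtain ⟨a', m', hb'', e', h5⟩ := hlev _ (mul_mem (H.le hw) hy) (h3 y hy hj w hw)
    refine h5.symm.imp (fun ⟨k', _, R', hq'⟩ => ?_) fun h => (hpw _ (hBL (hB _ (mul_mem (H.le hw) hy)
      (h3 y hy hj w hw))) e).trans ((hpw _ _ e').symm.trans h)
    obtain rfl : m' = k + 1 := by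
      have := Nat.two_pow_pos (m' + 1)
      have := Nat.two_pow_pos (k + 1 + 1)
      exact Nat.succ.inj (Nat.pow_right_injective le_rfl (show 2 ^ (m' + 1) = 2 ^ (k + 1 + 1) by omega))
    obtain rfl : a' = a := by omega
    exact R'
  have hTΦ : T ≤ (Φ.comap ψ).map L.subtype := hU.ge.trans ((closure_le _).2 (by
    rintro _ ⟨y, hy, hj, w, hw, rfl⟩
    refine ⟨⟨_, hBL (hB _ (mul_mem (H.le hw) hy) (h3 y hy hj w hw))⟩ * (⟨_, hBL (hB y hy hj)⟩ : L)⁻¹,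
      ?_, rfl⟩
    change ψ _ ∈ Φ
    rw [map_mul, map_inv]
    by_cases h0 : ψ ⟨_, hBL (hB y hy hj)⟩ = 1
    · by_cases h1 : ψ ⟨_, hBL (hB _ (mul_mem (H.le hw) hy) (h3 y hy hj w hw))⟩ = 1
      · rw [h0, h1, mul_inv_cancel]; exact one_mem _
      · simpa using inv_mem (main _ (mul_mem (H.le hw) hy) (h3 y hy hj w hw) _ (inv_mem hw) h1)
    · exact main y hy hj w hw h0))
  have hbot : ⊥ = T' := eq_of_le_sup_frattini bot_le (by
    rintro _ ⟨t, ht, rfl⟩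
    obtain ⟨t', ht', e⟩ := hTΦ ht
    exact mem_sup_right ((Subtype.ext e : t' = t) ▸ ht'))
  refine hne hTB ?_
  rw [commutator_comm, commutator_le]
  rintro _ ⟨t, ht, rfl⟩ g hg
  exact hker (f t) (mem_bot.1 (hbot.ge (mem_im ψ ht))) g hg

theorem pLengthLE_of_expLE_two {G : Type u} [Group G] [Finite G] [Group.IsSolvable G] {e : ℕ}
    (h : ExpLE 2 e G) : PLengthLE 2 e G := by
  rcases e with _ | e
  · exact pLengthLE_zero_of_expLE h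
  obtain ⟨X₀, _, _, f₀, hEA₀, σ₀, hf₀, -, -, hσ₀, hval₀⟩ :=
    exists_hh_rep (isPConstrained_of_isPSolvable (isPSolvable_of_isSolvable (G := G) (p := 2)))
  refine pLengthLE_succ_iff.2 (lin_exp e σ₀ hσ₀ pCore_quotient_pPrimePCore fun y hy => ?_)
  obtain ⟨x, ⟨j, hj⟩, rfl⟩ := exists_lift_pElement _ (QuotientGroup.mk'_surjective _) hy
  exact (h.of_surjective f₀ hf₀).sub_one_pow_eq_zero (hval₀ x) ⟨j, by rw [← map_pow, hj, map_one]⟩

end Cfsg.Agent.Bry
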