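import Cfsg.Agent.Bry.Fa

/-!
# The key computation for the exponent bound
-/

set_option autoImplicit false
set_option linter.style.haveILetI false

namespace Cfsg.Agent.Bry

open Subgroup Cfsg.Agent.FGS.Gross
open scoped commutatorElement

theorem mul_pow_mem {G : Type*} [Group G] {K : Subgroup G} {x h : G} (hh : h ∈ normalizer (K : Set G))
    (hx : x ∈ K) (k : ℕ) : (x * h) ^ k * (h ^ k)⁻¹ ∈ K := by
  induction k with
  | zero => simp
  | succ k ih =>
    have := mul_mem hx (conj_mem hh ih)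
    convert this using 1
    rw [pow_succ', pow_succ]
    group

theorem eq_of_two_pow_sub_one {q b n : ℕ} (hq : q.Prime) (h : (2 ^ (n + 2) - 1) ^ 2 = q ^ b) :
    q = 2 ^ (n + 2) - 1 := by
  obtain ⟨c, -, hc⟩ := (Nat.dvd_prime_pow hq).1 (h ▸ dvd_pow_self _ two_ne_zero : 2 ^ (n + 2) - 1 ∣ q ^ b)
  have h1 : q ^ c + 1 = 4 * 2 ^ n := by have := Nat.two_pow_pos n; rw [pow_add] at hc; omega
  rcases Nat.even_or_odd' c with ⟨k, rfl | rfl⟩
  · rw [mul_comm, pow_mul] at h1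
    rcases Nat.even_or_odd' (q ^ k) with ⟨m, e | e⟩ <;> rw [e] at h1 <;> ring_nf at h1 <;> omega
  obtain ⟨r, rfl⟩ : Odd q := Nat.not_even_iff_odd.1 fun h => by
    obtain ⟨m, hm⟩ := h.pow_of_ne_zero (n := 2 * k + 1) (by omega)
    omega
  obtain ⟨l, hl⟩ : ∃ l, (2 * r + 1) ^ (2 * k + 1) + 1 = (2 * r + 2) * (2 * l + 1) := by
    clear h1 hc
    induction k with
    | zero => exact ⟨0, by ring⟩
    | succ k ih =>
      obtain ⟨l, hl⟩ := ih
      exact ⟨l + r * (2 * r + 1) ^ (2 * k + 1), by linear_combination hl⟩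
  have h2 : 2 * l + 1 ∣ 2 ^ (n + 2) := ⟨2 * r + 2, by rw [pow_add]; linarith⟩
  have h3 := Nat.eq_one_of_dvd_coprimes ((Nat.coprime_two_left.2 (odd_two_mul_add_one l)).pow_left _) h2 dvd_rfl
  rw [pow_add]
  rw [h3] at hl
  omega

variable {A : Type*} [CommGroup A] [Finite A] (hA : Odd (Nat.card A))

/-- `s` acts as `± 1` on the elements inverted by `t`. -/
def PM (s t : MulAut A) : Prop := (∀ a ∈ Neg t, s a = a) ∨ ∀ a ∈ Neg t, s a = a⁻¹

include hA

theorem ext_neg {s s' t : MulAut A} (ht : t * t = 1) (h1 : ∀ a, t a = a → s a = s' a)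
    (h2 : ∀ a ∈ Neg t, s a = s' a) : s = s' := by
  ext a
  obtain ⟨b, c, hb, hc, rfl⟩ := decomp hA ht a
  rw [map_mul, map_mul, h1 b hb, h2 c hc]

theorem key {n : ℕ} {T : Subgroup (MulAut A)} (hT : IsPGroup 2 T) (h4 : ∀ a ∈ T, a ^ 4 = 1)
    {g : MulAut A} (hg : g ∈ normalizer (T : Set (MulAut A))) (H : Refl (n + 1) g) {a : MulAut A}
    (ha : a ∈ T) (fp : ∀ s ∈ T ⊔ zpowers g, s * s = 1 → Commute s (g ^ 2 ^ (n + 1)) →
      PM s (g ^ 2 ^ (n + 1))) (hG : Refl (n + 1) (a * g) ∨ (a * g) ^ 2 ^ (n + 1) = 1) :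
    (a * g) ^ 2 ^ (n + 1) * (g ^ 2 ^ (n + 1))⁻¹ ∈ (frattini T).map T.subtype := by
  set Φ := (frattini T).map T.subtype
  have hsq : ∀ c ∈ T, c ^ 2 ∈ Φ := fun c hc => ⟨⟨c, hc⟩ ^ 2, Grp.PFrattini.pow_mem_frattini hT _, rfl⟩
  have hΦ : normalizer (T : Set (MulAut A)) ≤ normalizer (Φ : Set (MulAut A)) :=
    Grp.normalizer_le_normalizer_map_of_characteristic T _
  have hS : IsPGroup 2 (T ⊔ zpowers g : Subgroup (MulAut A)) := IsPGroup.to_sup_of_normal_left' hT
    (PLocal.isPGroup_zpowers_of_pow_eq_one (k := n + 1 + 1) (by rw [pow_succ, pow_mul, pow_two, H.sq]))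
    (zpowers_le.2 hg)
  have haS : a ∈ T ⊔ zpowers g := mem_sup_left ha
  have hgS : g ∈ T ⊔ zpowers g := mem_sup_right (mem_zpowers g)
  have hcm : Commute a g → (a * g) ^ 2 ^ (n + 1) * (g ^ 2 ^ (n + 1))⁻¹ ∈ Φ := fun h => by
    rw [h.mul_pow, mul_inv_cancel_right, pow_succ, pow_mul]
    exact hsq _ (pow_mem ha _)
  have dich : ∀ h ∈ T ⊔ zpowers g, Refl (n + 1) h → g ^ 2 ^ (n + 1) = h ^ 2 ^ (n + 1) ∨ Commute g h :=
    fun h hh H' => H.dichot hA H' (hS.to_le (by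
      rw [closure_le]
      rintro _ (rfl | rfl)
      exacts [hgS, hh]))
  rcases hG with hG | hG
  · rcases dich _ (mul_mem haS hgS) hG with h | h
    · rw [h, mul_inv_cancel]; exact one_mem _
    · exact hcm (by simpa using (h.mul_right (Commute.refl g).inv_right).symm)
  set t := g ^ 2 ^ (n + 1) with ht
  have hgt : Commute g t := (Commute.refl g).pow_right _
  have hd := dich _ (mul_mem (mul_mem (inv_mem haS) hgS) (inv_mem (inv_mem haS))) (H.conj a⁻¹)
  rw [conj_pow, inv_inv, ← ht] at hd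
  rcases n with _ | n
  · have e1 : a * g * (a * g) = 1 := by rw [← hG, zero_add, pow_one, pow_two]
    have e2 : t = g * g := by rw [ht, zero_add, pow_one, pow_two]
    have hat : Commute a t := by
      have h5 : t = a⁻¹ * t * a := hd.elim id fun h => by
        have e3 : a⁻¹ * g * a * g = (a ^ 2)⁻¹ := by
          rw [eq_inv_iff_mul_eq_one, ← mul_left_inj (a ^ 2)⁻¹, ← mul_right_inj (a ^ 2), one_mul,
            mul_inv_cancel, ← e1]
          group
        have e4 := h.symm.mul_pow 2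
        rw [e3, inv_pow, ← pow_mul, h4 a ha, inv_one, pow_two, pow_two, ← e2, eq_comm,
          mul_eq_one_iff_eq_inv, inv_eq_of_mul_eq_one_right H.sq] at e4
        refine e4.symm.trans ?_
        rw [e2]
        group
      exact (inv_mul_eq_iff_eq_mul.1 (mul_assoc a⁻¹ t a ▸ h5.symm)).symm
    refine hcm (ext_neg hA H.sq (fun x hx => ?_) fun x hx => ?_)
    · rw [MulAut.mul_apply, MulAut.mul_apply, H.fix x hx, H.fix _ (fix_apply hat.symm hx)]
    · have e : (g * a) x = g ((a * g) (g⁻¹ x)) := by simp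
      have hx' := neg_apply_mem hgt.symm.inv_right hx
      rcases fp _ (mul_mem haS hgS) e1 (hat.mul_left hgt) with h | h <;> rw [e, h x hx, h _ hx'] <;> simp
  set c := a⁻¹ * g * a * g⁻¹ with hc
  have hcT : c ∈ T := by
    rw [hc, mul_assoc, mul_assoc, ← mul_assoc g]
    exact mul_mem (inv_mem ha) (conj_mem hg ha)
  have hcg : Commute c g → (a * g) ^ 2 ^ (n + 1 + 1) * t⁻¹ ∈ Φ := fun h => by
    have e1 : (a * g) ^ 2 = a ^ 2 * (c * g ^ 2) := by rw [hc]; simp only [pow_two]; group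
    have e2 : ((a * g) ^ 2) ^ 2 = a ^ 2 * (c * g ^ 2 * a ^ 2 * (c * g ^ 2)⁻¹) * c ^ 2 * (g ^ 2) ^ 2 := by
      rw [mul_assoc _ (c ^ 2), ← (h.pow_right 2).mul_pow, e1, pow_two (a ^ 2 * _), pow_two (c * _)]
      group
    have e3 : ∀ x : MulAut A, x ^ 2 ^ (n + 1 + 1) = ((x ^ 2) ^ 2) ^ 2 ^ n := fun x => by
      rw [← pow_mul, ← pow_mul]; congr 1; ring
    rw [ht, e3, e3, e2]
    exact mul_pow_mem (hΦ (pow_mem (pow_mem hg _) _)) (mul_mem (mul_mem (hsq a ha)
      (conj_mem (hΦ (mul_mem (le_normalizer hcT) (pow_mem hg _))) (hsq a ha))) (hsq c hcT)) _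
  refine hd.elim (fun h => ?_) fun h => hcg (h.symm.mul_left (Commute.refl g).inv_left)
  have hat : Commute a t := (inv_mul_eq_iff_eq_mul.1 (mul_assoc a⁻¹ t a ▸ h.symm)).symm
  have hct : Commute c t := ((hat.inv_left.mul_left hgt).mul_left hat).mul_left hgt.inv_left
  by_cases h1 : c ∈ (⊥ : Subgroup (MulAut A))
  · exact hcg (by rw [mem_bot.1 h1]; exact Commute.one_left g)
  obtain ⟨i, hi1, hi2⟩ := Grp.PChain.exists_pow_notMem_pow_mem hT ⊥ (u := ⟨c, hcT⟩)
    fun e => h1 (congrArg Subtype.val (mem_bot.1 e))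
  have hfix : ∀ x, t x = x → (c ^ 2 ^ i) x = x := fun x hx => pow_fix (by
    have e : g⁻¹ x = x := by rw [← H.fix x hx, MulAut.inv_apply_self, H.fix x hx]
    rw [hc, MulAut.mul_apply, MulAut.mul_apply, MulAut.mul_apply, e, H.fix _ (fix_apply hat.symm hx),
      MulAut.inv_apply_self]) _
  rcases fp _ (mem_sup_left (pow_mem hcT (2 ^ i))) ((pow_two _).symm.trans
    (congrArg Subtype.val (mem_bot.1 hi2))) (hct.pow_left _) with h2 | h2
  · exact absurd (mem_bot.2 (Subtype.ext (ext_neg hA H.sq hfix h2))) hi1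
  have e : c ^ 2 ^ i = t := ext_neg hA H.sq (fun x hx => (hfix x hx).trans hx.symm)
    fun x hx => (h2 x hx).trans hx.symm
  rcases i with _ | i
  · exact hcg (by rw [pow_zero, pow_one] at e; exact e ▸ hgt.symm)
  · rw [hG, one_mul, ← e, pow_succ, pow_mul]
    exact inv_mem (hsq _ (pow_mem hcT _))

end Cfsg.Agent.Bry
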