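import Cfsg.Agent.Bry.ExpKey

/-!
# The action on `Q / Z(Q)` in a faithful critical configuration
-/

set_option autoImplicit false
set_option linter.style.haveILetI false

namespace Cfsg.Agent.Bry

open Module Subgroup Cfsg.Agent.PLocal Cfsg.Agent.PLocal.HH Cfsg.Agent.FT.Rep Cfsg.Agent.FGS.Gross
open scoped commutatorElement IsMulCommutative

universe u v

theorem pm_of_perp {A : Type*} [CommGroup A] [Finite A] (hA : Odd (Nat.card A)) {q : ℕ} (hq : q.Prime)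
    {s t : MulAut A} (hs : s * s = 1) (ht : t * t = 1) (hc : Commute s t)
    (hN : Nat.card (Neg t) = q ^ 2)
    (hp : ∀ x ∈ Neg s ⊓ Neg t, ∃ K : Subgroup A, x ∈ K ∧ (∀ a, s a = a → a ∈ K) ∧
      (∀ a, t a = a → a ∈ K) ∧ (K = ⊤ → x = 1)) : PM s t := by
  have h1 : ∀ {s : MulAut A}, s * s = 1 → ∀ a, s (s a) = a := fun hs a => by
    rw [← MulAut.mul_apply, hs, MulAut.one_apply]
  have h2 : ∀ {s : MulAut A}, s * s = 1 → ∀ a, a * (s a)⁻¹ ∈ Neg s := fun hs a => by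
    rw [mem_neg, map_mul, map_inv, h1 hs, mul_inv_rev, inv_inv]
  rw [PM, or_comm, or_iff_not_imp_left]
  intro hne
  have key : ∀ x ∈ Neg s ⊓ Neg t, x = 1 := fun x hx => by
    by_contra hx1
    obtain ⟨K, hxK, hsK, htK, hK⟩ := hp x hx
    have h3 : Neg s ⊓ Neg t ≤ zpowers x := by
      have e1 := card_dvd_of_le (zpowers_le.2 hx)
      have e2 := card_dvd_of_le (inf_le_right : Neg s ⊓ Neg t ≤ _)
      rw [hN] at e2
      obtain ⟨i, hi, e3⟩ := (Nat.dvd_prime_pow hq).1 e2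
      obtain ⟨j, hj, e4⟩ := (Nat.dvd_prime_pow hq).1 (e3 ▸ e1)
      have hi2 : i ≠ 2 := fun e => hne fun a ha =>
        ((eq_of_le_of_card_ge (inf_le_right : Neg s ⊓ Neg t ≤ _) (by rw [hN, e3, e])).ge ha).1
      have hj0 : j ≠ 0 := fun e => hx1 (by rwa [e, pow_zero, Nat.card_zpowers, orderOf_eq_one_iff] at e4)
      exact (eq_of_le_of_card_ge (zpowers_le.2 hx) (by rw [e3, e4, show i = j by omega])).ge
    refine hx1 (hK (eq_top_iff.2 fun a _ => ?_))
    have h4 : ∀ {s : MulAut A}, s * s = 1 → ∀ a, s (a * s a) = a * s a := fun hs a => by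
      rw [map_mul, h1 hs, mul_comm]
    have h5 := mul_mem (pow_mem (hsK _ (h4 hs a)) 2) (mul_mem (htK _ (h4 ht (a * (s a)⁻¹)))
      (zpowers_le.2 hxK (h3 ⟨(Neg s).mul_mem (h2 hs a) ((Neg s).inv_mem (neg_apply_mem hc (h2 hs a))), h2 ht _⟩)))
    rw [mul_mul_mul_comm, mul_inv_cancel, mul_one, ← pow_two, ← mul_pow, mul_mul_mul_comm,
      mul_inv_cancel, mul_one, ← pow_two, ← pow_mul] at h5
    obtain ⟨k, hk⟩ := hA.pow (n := 2)
    obtain ⟨l, hl⟩ : ∃ l, 3 * Nat.card A ^ 2 + 1 = 2 * 2 * l := by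
      obtain ⟨m, hm⟩ := hA
      exact ⟨3 * m ^ 2 + 3 * m + 1, by rw [hm]; ring⟩
    have := pow_mem h5 l
    rwa [← pow_mul, ← hl, pow_succ, pow_two, ← mul_assoc, pow_mul', pow_card_eq_one', one_pow,
      one_mul] at this
  exact fun a ha => mul_inv_eq_one.1 (key _ ⟨by simpa using inv_mem (h2 hs a),
    (Neg t).mul_mem (neg_apply_mem hc.symm ha) ((Neg t).inv_mem ha)⟩)

variable {F : Type*} [Field F] [CharP F 2] [IsAlgClosed F] {W : Type v} [AddCommGroup W] [Module F W]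
  [FiniteDimensional F W] {Γ : Type u} [Group Γ] [Finite Γ]

theorem Fa.abs {ρ : Γ →* End F W} {q : ℕ} {Q : Subgroup Γ} [Q.Normal] (h : Fa ρ q Q) :
    ∃ (A : Type u) (_ : CommGroup A) (_ : Finite A) (φ : Γ →* MulAut A), Odd (Nat.card A) ∧
      (∀ g, φ g = 1 → ∀ t ∈ Q, g * t * g⁻¹ * t⁻¹ ∈ zc Q) ∧
      (∀ x n, (ρ x - 1) ^ (2 ^ (n + 1) - 1) = 0 → φ x ^ 2 ^ n = 1 ∨
        ∃ m, n = m + 1 ∧ Refl n (φ x) ∧ q = 2 ^ (n + 1) - 1) ∧
      ∀ s t, φ s * φ s = 1 → φ t * φ t = 1 → Commute (φ s) (φ t) →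
        Nat.card (Neg (φ t)) = q ^ 2 → PM (φ s) (φ t) := by
  haveI := Fact.mk h.pr
  haveI := h.nt
  haveI : (zc Q).Normal := ⟨fun z hz g => by rwa [h.central hz g, mul_inv_cancel_right]⟩
  let π := QuotientGroup.mk' (zc Q)
  have hπ : ∀ t, π t = 1 ↔ t ∈ zc Q := fun t => QuotientGroup.eq_one_iff t
  haveI := Normal.map (H := Q) inferInstance π (QuotientGroup.mk'_surjective _)
  haveI : IsMulCommutative (Q.map π) := ⟨⟨by
    rintro ⟨_, a, ha, rfl⟩ ⟨_, b, hb, rfl⟩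
    exact Subtype.ext (commutatorElement_eq_one_iff_mul_comm.1
      ((map_commutatorElement π a b).symm.trans ((hπ _).2 (h.comm_mem ha hb))))⟩⟩
  have hqA := h.qQ.map π
  have hA : Odd (Nat.card (Q.map π)) :=
    Nat.coprime_two_right.mp (Grp.coprime_card_of_isPGroup_of_ne h.ne.symm hqA)
  let φ : Γ →* MulAut (Q.map π) := MulAut.conjNormal.comp π
  have hφ : ∀ g t (ht : t ∈ Q), (φ g ⟨π t, mem_map_of_mem π ht⟩ : Γ ⧸ zc Q) = π (g * t * g⁻¹) :=
    fun g t ht => rfl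
  refine ⟨Q.map π, inferInstance, inferInstance, φ, hA, fun g hg t ht => (hπ _).1 ?_,
    fun x n hT => ?_, fun s t hs ht hc hN => pm_of_perp hA h.pr hs ht hc hN ?_⟩
  · rw [map_mul, ← hφ g t ht, hg, map_inv]
    exact mul_inv_cancel _
  · rw [or_iff_not_imp_left]
    intro h0
    have hxe : x ^ 2 ^ (n + 1) = 1 := h.inj (by
      rw [map_pow, map_one, ← sub_eq_zero, ← sub_one_pow_char_pow (F := F) 2,
        ← Nat.sub_add_cancel (Nat.two_pow_pos (n + 1)), pow_succ, hT, zero_mul])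
    have ho : orderOf x = 2 ^ (n + 1) := orderOf_eq_prime_pow
      (fun e => h0 (by rw [← map_pow, e, map_one])) hxe
    have h1 : ¬ ⁅Q, zpowers (x ^ 2 ^ n)⁆ ≤ zc Q := fun e => h0 (by
      ext ⟨_, t, ht, rfl⟩
      rw [← map_pow, hφ _ t ht]
      have := (hπ _).2 (inv_mem (e (commutator_mem_commutator ht (mem_zpowers _))))
      rwa [commutatorElement_inv, commutatorElement_def, map_mul, map_inv, mul_inv_eq_one] at this)
    have h2 := (crit_card ρ h.inj h.ne h.qQ inf_le_left (le_inf (commutator_le_self Q) h.comm) h.scal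
      le_rfl (le_normalizer_of_normal (mem_top x)) hT).resolve_left h1
    have h3 : Nat.card (⁅Q.map π, zpowers (π x ^ 2 ^ n)⁆ : Subgroup _) = (2 ^ (n + 1) - 1) ^ 2 := by
      rw [← h2, ← map_pow, ← MonoidHom.map_zpowers, ← map_commutator, ← relIndex_ker,
        QuotientGroup.ker_mk', relIndex_sup_right]
    have h4 := red_card_le ρ h.ne (h.red (B := ⊤) le_normalizer_of_normal top_ne_bot (fun _ _ _ _ => trivial)
      fun _ _ _ _ => trivial) (mem_top x) ho (fun w _ => by rw [hT]; rfl) le_top (mem_top x)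
      (π.comp (⊤ : Subgroup Γ).subtype) fun t _ => hπ t
    rw [← map_map, map_subgroupOf_eq_of_le le_top] at h4
    rcases n with _ | m
    · refine absurd (relIndex_eq_one.1 h2) fun e => h1 (le_sup_left.trans e)
    have H := refl_of_card hA (by rw [← map_pow, hxe, map_one]) h3 h4
    obtain ⟨b, hb⟩ := (hqA.to_subgroup (Neg (φ x ^ 2 ^ (m + 1)))).exists_card_eq
    exact ⟨m, rfl, H, eq_of_two_pow_sub_one h.pr (H.card.symm.trans hb)⟩
  rintro ⟨_, x, hx, rfl⟩ ⟨hxs, hxt⟩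
  have key : ∀ s, ⟨π x, mem_map_of_mem π hx⟩ ∈ Neg (φ s) → ∀ a, φ s a = a →
      a ∈ ((cen Q x).map π).subgroupOf (Q.map π) := by
    rintro s hs ⟨_, g, hg, rfl⟩ e
    refine mem_map_of_mem π ⟨hg, mem_centralizer_singleton_iff.2 (h.comm_of_inv (s := s) hx hg
      ((hπ _).1 ?_) ((hπ _).1 ?_))⟩
    · rw [map_mul, ← hφ s x hx, mem_neg.1 hs]
      exact mul_inv_cancel _
    · rw [map_mul, ← hφ s g hg, e, map_inv]
      exact inv_mul_cancel _
  refine ⟨_, ?_, key s hxs, key t hxt,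
    fun e => Subtype.ext ((hπ x).2 ⟨hx, fun g hg => ?_⟩)⟩
  · exact mem_map_of_mem π (K := cen Q x) ⟨hx, mem_centralizer_singleton_iff.2 rfl⟩
  obtain ⟨c, hc, e'⟩ := e.ge (mem_top ⟨π g, mem_map_of_mem π hg⟩)
  have hz := QuotientGroup.eq.1 e'
  rw [show g = c * (c⁻¹ * g) by group, mul_assoc, ← h.central hz x, ← mul_assoc,
    mem_centralizer_singleton_iff.1 hc.2, mul_assoc]

end Cfsg.Agent.Bry
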