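import Cfsg.Agent.Bry.TwoStep

/-!
# Faithful critical configurations in characteristic two
-/

set_option autoImplicit false
set_option linter.style.haveILetI false

namespace Cfsg.Agent.Bry

open Module Subgroup Cfsg.Agent.PLocal Cfsg.Agent.PLocal.HH Cfsg.Agent.FT.Rep Cfsg.Agent.SolvLin
open scoped commutatorElement IsMulCommutative

universe u v

section im
variable {Γ Γ' : Type*} [Group Γ] [Group Γ'] {L : Subgroup Γ} (f : L →* Γ')

/-- The image of a subgroup under a homomorphism defined on `L`. -/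
def im (D : Subgroup Γ) : Subgroup Γ' := (D.subgroupOf L).map f

theorem mem_im {D : Subgroup Γ} {x : L} (h : (x : Γ) ∈ D) : f x ∈ im f D := ⟨x, h, rfl⟩

theorem im_mono {A B : Subgroup Γ} (h : A ≤ B) : im f A ≤ im f B := map_mono (comap_mono h)

theorem im_commutator {A B : Subgroup Γ} (hA : A ≤ L) (hB : B ≤ L) :
    im f ⁅A, B⁆ = ⁅im f A, im f B⁆ := by
  have : ⁅A, B⁆ = ⁅A.subgroupOf L, B.subgroupOf L⁆.map L.subtype := by
    rw [map_commutator, map_subgroupOf_eq_of_le hA, map_subgroupOf_eq_of_le hB]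
  rw [im, im, im, ← map_commutator, this, subgroupOf, comap_map_eq_self_of_injective L.subtype_injective]

theorem im_ds {D : Subgroup Γ} (hD : D ≤ L) : ∀ n, im f (ds D n) = ds (im f D) n
  | 0 => rfl
  | n + 1 => by rw [ds, ds, im_commutator f ((ds_le D n).trans hD) ((ds_le D n).trans hD), im_ds hD n]

theorem im_normalizer {A B : Subgroup Γ} (h : B ≤ normalizer (A : Set Γ)) :
    im f B ≤ normalizer (im f A : Set Γ') := by
  rintro _ ⟨x, hx, rfl⟩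
  exact le_normalizer_map f (mem_map_of_mem f (mem_normalizer_subgroupOf (h hx)))

theorem im_isPGroup {p : ℕ} {A : Subgroup Γ} (h : IsPGroup p A) : IsPGroup p (im f A) :=
  h.comap_subtype.map f

end im

variable {F : Type*} [Field F] {W : Type v} [AddCommGroup W] [Module F W] {Γ : Type u} [Group Γ]

/-- The centre of a subgroup. -/
abbrev zc (Q : Subgroup Γ) : Subgroup Γ := Q ⊓ centralizer (Q : Set Γ)

/-- The centralizer of an element in a subgroup. -/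
abbrev cen (Q : Subgroup Γ) (s : Γ) : Subgroup Γ := Q ⊓ centralizer {s}

/-- The subgroup `[Q, s] Z(Q)`. -/
abbrev rc (Q : Subgroup Γ) (s : Γ) : Subgroup Γ := ⁅Q, zpowers s⁆ ⊔ zc Q

theorem mem_cen {Q : Subgroup Γ} {s t : Γ} : t ∈ cen Q s ↔ t ∈ Q ∧ s * t * s⁻¹ = t := by
  rw [mem_inf, mem_centralizer_singleton_iff, mul_inv_eq_iff_eq_mul, eq_comm]

theorem conj_eq_of_cent {Q : Subgroup Γ} {s t : Γ} (hs : s ∈ centralizer (Q : Set Γ)) (ht : t ∈ Q) :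
    s * t * s⁻¹ = t := by rw [← hs t ht, mul_inv_cancel_right]

theorem cent_of_conj {Q : Subgroup Γ} {s : Γ} (h : ∀ t ∈ Q, s * t * s⁻¹ = t) :
    s ∈ centralizer (Q : Set Γ) := fun t ht => (mul_inv_eq_iff_eq_mul.1 (h t ht)).symm

theorem conj_mem {Q : Subgroup Γ} {s t : Γ} (hs : s ∈ normalizer (Q : Set Γ)) (ht : t ∈ Q) :
    s * t * s⁻¹ ∈ Q := (mem_normalizer_iff.1 hs t).1 ht

theorem norm_cen [Finite Γ] {Q : Subgroup Γ} {s x : Γ} (hx : x ∈ normalizer (Q : Set Γ))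
    (h : Commute x s) : x ∈ normalizer (cen Q s : Set Γ) := mem_normalizer_fintype fun t ht =>
  mem_cen.2 ⟨conj_mem hx ht.1, by
    rw [← mul_assoc, ← mul_assoc, ← h.eq, mul_assoc _ x⁻¹, h.inv_inv.eq, ← mul_assoc,
      mul_assoc x, mul_assoc x, (mem_cen.1 ht).2]⟩

theorem norm_zc {Q : Subgroup Γ} {x : Γ} (hx : x ∈ normalizer (Q : Set Γ)) :
    x ∈ normalizer (zc Q : Set Γ) :=
  Solv.le_normalizer_inf le_rfl (Solv.le_normalizer_centralizer le_rfl) hx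

theorem norm_rc {Q : Subgroup Γ} {s x : Γ} (hx : x ∈ normalizer (Q : Set Γ)) (h : Commute x s) :
    x ∈ normalizer (rc Q s : Set Γ) :=
  Solv.le_normalizer_sup (Solv.le_normalizer_commutator (zpowers_le.2 hx) (zpowers_le.2
    (centralizer_le_normalizer _ (centralizer_zpowers_eq s ▸ mem_centralizer_singleton_iff.2 h.eq))))
    (zpowers_le.2 (norm_zc hx)) (mem_zpowers x)

theorem rc_le {Q : Subgroup Γ} {s : Γ} (hs : s ∈ normalizer (Q : Set Γ)) : rc Q s ≤ Q :=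
  sup_le (Solv.commutator_le_of_le_normalizer (zpowers_le.2 hs)) inf_le_left

theorem inv_sup [Finite Γ] {ρ : Γ →* End F W} {A B : Subgroup Γ} {Y : Submodule F W}
    (hA : ∀ g ∈ A, ∀ w ∈ Y, ρ g w ∈ Y) (hB : ∀ g ∈ B, ∀ w ∈ Y, ρ g w ∈ Y) :
    ∀ g ∈ A ⊔ B, ∀ w ∈ Y, ρ g w ∈ Y :=
  let T : Subgroup Γ :=
    { carrier := {g | ∀ w ∈ Y, ρ g w ∈ Y}
      one_mem' := fun w hw => by rwa [map_one]
      mul_mem' := fun {a b} ha hb w hw => by rw [apply_mul]; exact ha _ (hb w hw)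
      inv_mem' := fun {a} ha => invariant_sup_zpowers ρ (Q := ⊥)
        (fun g hg w hw => by rwa [mem_bot.1 hg, map_one]) ha _ (mem_sup_right (inv_mem (mem_zpowers a))) }
  fun _ hg => (sup_le hA hB : A ⊔ B ≤ T) hg

/-- `Q` is a `q`-group of class at most two whose centre acts by scalars on a faithful module. -/
structure Fa (ρ : Γ →* End F W) (q : ℕ) (Q : Subgroup Γ) : Prop where
  inj : Function.Injective ρ
  nt : Nontrivial W
  pr : q.Prime
  ne : 2 ≠ q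
  qQ : IsPGroup q Q
  comm : ⁅Q, Q⁆ ≤ centralizer (Q : Set Γ)
  pow : ∀ t ∈ Q, t ^ q ∈ centralizer (Q : Set Γ)
  scal : ∀ z ∈ zc Q, ∃ c : F, ρ z = c • 1

theorem red_fa [Finite Γ] {ρ : Γ →* End F W} {q : ℕ} {B Q Z : Subgroup Γ} {Y : Submodule F W}
    (h : Red ρ q B Q Z Y) (hq : q.Prime) (h2 : 2 ≠ q) :
    ∃ (Γ' : Type u) (_ : Group Γ') (_ : Finite Γ') (f : (B ⊔ Q : Subgroup Γ) →* Γ')
      (σ : Γ' →* End F Y), Function.Surjective f ∧ Fa σ q (im f Q) ∧ (∀ l w, (σ (f l) w : W) = ρ l w) ∧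
      ∀ t : (B ⊔ Q : Subgroup Γ), (t : Γ) ∈ Q →
        (f t ∈ centralizer (im f Q : Set Γ') ↔ (t : Γ) ∈ Z) := by
  obtain ⟨Γ', _, _, f₀, σ₀, hσ₀, hf₀⟩ := exists_faithful ρ _ Y (inv_sup h.invB h.invQ)
  let f := f₀.rangeRestrict
  let σ := σ₀.comp f₀.range.subtype
  have hσ : Function.Injective σ := hσ₀.comp Subtype.val_injective
  have hf : ∀ l w, (σ (f l) w : W) = ρ l w := hf₀
  have hs : ∀ t : (B ⊔ Q : Subgroup Γ), (t : Γ) ∈ Z → ∃ c : F, σ (f t) = c • 1 := fun t ht =>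
    (h.scal t ht).imp fun c hc => LinearMap.ext fun w => Subtype.ext ((hf t w).trans (hc w w.2))
  have key : ∀ t : (B ⊔ Q : Subgroup Γ), (t : Γ) ∈ Q →
      (f t ∈ centralizer (im f Q : Set f₀.range) ↔ (t : Γ) ∈ Z) := fun t ht =>
    ⟨fun h1 => h.nondeg t ht fun g hg w hw => by
      have h2 := h1 _ (mem_im f (x := ⟨g, mem_sup_right hg⟩) hg)
      rw [← map_mul, ← map_mul] at h2
      have h3 := hf (⟨g, mem_sup_right hg⟩ * t) ⟨w, hw⟩
      rw [h2] at h3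
      exact h3.symm.trans (hf _ ⟨w, hw⟩), fun h1 g _ => hσ (by
      obtain ⟨c, hc⟩ := hs t h1
      rw [map_mul, map_mul, hc, mul_smul_comm, smul_mul_assoc, mul_one, one_mul])⟩
  refine ⟨_, _, inferInstance, f, σ, f₀.rangeRestrict_surjective, ⟨hσ, Submodule.nontrivial_iff_ne_bot.2 h.ne_bot, hq, h2,
    im_isPGroup f h.qQ, ?_, ?_, ?_⟩, hf, key⟩
  · rw [← im_commutator f le_sup_right le_sup_right]
    rintro _ ⟨t, ht, rfl⟩
    exact (key t (h.le (h.comm ht))).2 (h.comm ht)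
  · rintro _ ⟨t, ht, rfl⟩
    exact map_pow f t q ▸ (key (t ^ q) (Q.pow_mem ht q)).2 (h.pow t ht)
  · rintro _ ⟨⟨t, ht, rfl⟩, h1⟩
    exact hs t ((key t ht).1 h1)

namespace Fa

variable {ρ : Γ →* End F W} {q : ℕ} {Q : Subgroup Γ} (h : Fa ρ q Q)
include h

theorem central {z : Γ} (hz : z ∈ zc Q) (g : Γ) : g * z = z * g := h.inj (by
  obtain ⟨c, hc⟩ := h.scal z hz
  rw [map_mul, map_mul, hc, mul_smul_comm, smul_mul_assoc, mul_one, one_mul])

theorem comm_mem {a b : Γ} (ha : a ∈ Q) (hb : b ∈ Q) : ⁅a, b⁆ ∈ zc Q :=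
  ⟨commutator_le_self Q (commutator_mem_commutator ha hb), h.comm (commutator_mem_commutator ha hb)⟩

theorem eq_one {Y : Submodule F W} (h0 : Y ≠ ⊥) (hY : ∀ g ∈ Q, ∀ w ∈ Y, ρ g w ∈ Y) {t : Γ}
    (ht : t ∈ Q) (h1 : ∀ w ∈ Y, ρ t w = w) : t = 1 := by
  obtain ⟨w, hw, hw0⟩ := (Submodule.ne_bot_iff Y).1 h0
  have key : ∀ z ∈ zc Q, ρ z w = w → z = 1 := fun z hz e => h.inj (by
    obtain ⟨c, hc⟩ := h.scal z hz
    rw [hc] at e ⊢
    rw [smul_left_injective F hw0 (e.trans (one_smul F w).symm), one_smul, map_one])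
  refine key t ⟨ht, fun g hg => commutatorElement_eq_one_iff_mul_comm.1 (key _ (h.comm_mem hg ht) ?_)⟩
    (h1 w hw)
  have e : ρ t⁻¹ w = w := by rw [← h1 w hw, apply_inv_apply, h1 w hw]
  rw [commutatorElement_def, apply_mul, apply_mul, apply_mul, e, h1 _ (hY _ (inv_mem hg) w hw),
    apply_apply_inv]

theorem l0 {Y : Submodule F W} (h0 : Y ≠ ⊥) (hY : ∀ g ∈ Q, ∀ w ∈ Y, ρ g w ∈ Y) {s : Γ}
    (hs : s ∈ normalizer (Q : Set Γ)) (h1 : ∀ w ∈ Y, ρ s w = w) : s ∈ centralizer (Q : Set Γ) :=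
  cent_of_conj fun g hg => mul_inv_eq_one.1 (h.eq_one h0 hY (mul_mem (conj_mem hs hg) (inv_mem hg))
    fun w hw => by
      have e : ∀ w ∈ Y, ρ s⁻¹ w = w := fun w hw => by rw [← h1 w hw, apply_inv_apply, h1 w hw]
      rw [apply_mul, apply_mul, apply_mul, e _ (hY _ (inv_mem hg) w hw), apply_apply_inv, h1 w hw])

theorem red {B : Subgroup Γ} (hB : B ≤ normalizer (Q : Set Γ)) {Y : Submodule F W} (h0 : Y ≠ ⊥)
    (hQ : ∀ g ∈ Q, ∀ w ∈ Y, ρ g w ∈ Y) (hY : ∀ g ∈ B, ∀ w ∈ Y, ρ g w ∈ Y) : Red ρ q B Q (zc Q) Y where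
  ne_bot := h0
  qQ := h.qQ
  le := inf_le_left
  nQ := hB
  nZ := fun _ hx => norm_zc (hB hx)
  comm := le_inf (commutator_le_self Q) h.comm
  pow := fun t ht => ⟨Q.pow_mem ht q, h.pow t ht⟩
  invQ := hQ
  invB := hY
  scal := fun z hz => (h.scal z hz).imp fun c hc w _ => by rw [hc]; rfl
  nondeg := fun t ht h1 => ⟨ht, fun g hg => commutatorElement_eq_one_iff_mul_comm.1
    (h.eq_one h0 hQ (h.comm_mem hg ht).1 fun w hw => by
      rw [commutatorElement_def, mul_assoc, ← mul_inv_rev, apply_mul,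
        h1 g hg _ (hQ _ (inv_mem (mul_mem ht hg)) w hw), apply_apply_inv])⟩

theorem sub {Q₁ : Subgroup Γ} (h1 : Q₁ ≤ Q) (h2 : zc Q₁ ≤ centralizer (Q : Set Γ)) : Fa ρ q Q₁ :=
  ⟨h.inj, h.nt, h.pr, h.ne, h.qQ.to_le h1, ((commutator_mono h1 h1).trans h.comm).trans
    (centralizer_le h1), fun t ht => centralizer_le h1 (h.pow t (h1 ht)),
    fun z hz => h.scal z ⟨h1 hz.1, h2 hz⟩⟩

theorem fixmod [CharP F 2] {s t : Γ} (hs : ∃ k, s ^ 2 ^ k = 1) (h1 : s * t * s⁻¹ * t⁻¹ ∈ zc Q) :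
    s * t * s⁻¹ = t := by
  haveI := h.nt
  obtain ⟨k, hk⟩ := hs
  obtain ⟨c, hc⟩ := h.scal _ h1
  exact mul_inv_eq_one.1 (h.inj ((FGS.Gross.cop_of_pow ρ hk hc).trans (map_one ρ).symm))

theorem mem_of_sq {K : Subgroup Γ} {t : Γ} (ht : t ∈ Q) (h1 : t ^ 2 ∈ K) : t ∈ K := by
  obtain ⟨k, hk⟩ := isPGroup_subgroup_iff.1 h.qQ t ht
  obtain ⟨j, hj⟩ := (h.pr.odd_of_ne_two h.ne.symm).pow (n := k)
  have := K.pow_mem h1 (j + 1)
  rwa [← pow_mul, mul_add, mul_one, show 2 * j + 2 = q ^ k + 1 by omega, pow_succ, hk, one_mul] at this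

theorem eq_one_of_sq {t : Γ} (ht : t ∈ Q) (h1 : t * t = 1) : t = 1 :=
  mem_bot.1 (h.mem_of_sq ht (mem_bot.2 ((pow_two t).trans h1)))

theorem comm_of_inv {s x g : Γ} (hx : x ∈ Q) (hg : g ∈ Q) (h1 : x * (s * x * s⁻¹) ∈ zc Q)
    (h2 : g⁻¹ * (s * g * s⁻¹) ∈ zc Q) : g * x = x * g := by
  have hc := h.comm_mem hx hg
  have e1 : ⁅x, g⁆ = ⁅s * x * s⁻¹, s * g * s⁻¹⁆ := by
    rw [← conjugate_commutatorElement, h.central hc s, mul_inv_cancel_right]
  obtain ⟨z, e, hz⟩ : ∃ z, s * x * s⁻¹ = x⁻¹ * z ∧ z ∈ zc Q := ⟨_, by group, h1⟩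
  obtain ⟨z', e', hz'⟩ : ∃ z, s * g * s⁻¹ = g * z ∧ z ∈ zc Q := ⟨_, by group, h2⟩
  have e2 : ⁅x⁻¹ * z, g * z'⁆ = x⁻¹ * (z * (g * (z' * (z⁻¹ * x)) * z'⁻¹)) * g⁻¹ := by
    rw [commutatorElement_def]; group
  rw [e, e', e2, ← h.central hz', ← mul_assoc g, mul_inv_cancel_right, ← h.central hz, ← mul_assoc g,
    h.central (inv_mem hz) g] at e1
  refine (commutatorElement_eq_one_iff_mul_comm.1 (h.eq_one_of_sq hc.1 ?_)).symm
  nth_rw 1 [e1]
  rw [← mul_right_inj x, ← mul_assoc, h.central hc, mul_assoc z⁻¹, ← h.central (inv_mem hz),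
    commutatorElement_def, mul_assoc _ z⁻¹ z]
  group

variable [Finite Γ] {s : Γ} (hs : s ∈ normalizer (Q : Set Γ)) (h2 : ∃ k, s ^ 2 ^ k = 1)
include hs h2

omit h2 hs [Finite Γ] in
theorem rc_le_cent : rc Q s ≤ centralizer (cen Q s : Set Γ) := by
  refine sup_le ?_ fun z hz g _ => h.central hz g
  rw [← commutator_eq_bot_iff_le_centralizer]
  refine commutator_commutator_eq_bot_of_rotate ?_ ?_
  · rw [commutator_comm (zpowers s), commutator_eq_bot_iff_le_centralizer.2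
      (inf_le_right.trans (centralizer_zpowers_eq s).ge), commutator_bot_left]
  · exact commutator_eq_bot_iff_le_centralizer.2 fun z hz g _ => h.central
      (le_inf (commutator_le_self Q) h.comm (commutator_mono inf_le_left le_rfl hz)) g

theorem rc_sup_cen : rc Q s ⊔ cen Q s = Q := by
  haveI := Fact.mk h.pr
  obtain ⟨k, hk⟩ := h2
  have := Solv.coprime_commutator_sup_centralizer (zpowers s) Q (zpowers_le.2 hs)
    (Solv.coprime_card_of_isPGroup h.qQ (Grp.coprime_card_of_isPGroup_of_ne h.ne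
      (isPGroup_zpowers_of_pow_eq_one hk))) (Or.inr (Solv.isSolvable_of_isPGroup h.qQ))
  rw [centralizer_zpowers_eq] at this
  exact le_antisymm (sup_le (rc_le hs) inf_le_left) (this.ge.trans (sup_le_sup_right le_sup_left _))

theorem cent_of_both {x : Γ} (h3 : x ∈ centralizer (rc Q s : Set Γ))
    (h4 : x ∈ centralizer (cen Q s : Set Γ)) : x ∈ centralizer (Q : Set Γ) := by
  have : rc Q s ⊔ cen Q s ≤ centralizer {x} := sup_le
    (fun g hg => mem_centralizer_singleton_iff.2 (h3 g hg))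
    fun g hg => mem_centralizer_singleton_iff.2 (h4 g hg)
  rw [h.rc_sup_cen hs h2] at this
  exact fun g hg => mem_centralizer_singleton_iff.1 (this hg)

theorem zc_cen : zc (cen Q s) = zc Q :=
  le_antisymm (fun _ ht => ⟨ht.1.1, h.cent_of_both hs h2 (le_centralizer_iff.1 h.rc_le_cent ht.1) ht.2⟩)
    fun _ hz => ⟨⟨hz.1, mem_centralizer_singleton_iff.2 (h.central hz s).symm⟩, fun g _ => h.central hz g⟩

theorem zc_rc : zc (rc Q s) = zc Q :=
  le_antisymm (fun _ ht => ⟨rc_le hs ht.1, h.cent_of_both hs h2 ht.2 (h.rc_le_cent ht.1)⟩)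
    fun _ hz => ⟨mem_sup_right hz, fun g _ => h.central hz g⟩

omit h2 [Finite Γ] in
theorem cen_rc : cen (rc Q s) s ≤ zc (rc Q s) := fun _ ht =>
  ⟨ht.1, le_centralizer_iff.1 h.rc_le_cent ⟨rc_le hs ht.1, ht.2⟩⟩

theorem fa_cen : Fa ρ q (cen Q s) := h.sub inf_le_left ((h.zc_cen hs h2).le.trans inf_le_right)

theorem fa_rc : Fa ρ q (rc Q s) := h.sub (rc_le hs) ((h.zc_rc hs h2).le.trans inf_le_right)

end Fa

end Cfsg.Agent.Bry
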