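import Cfsg.Agent.Bry.TwoGrp

/-!
# More on faithful critical configurations
-/

set_option autoImplicit false
set_option linter.style.haveILetI false

namespace Cfsg.Agent.Bry.Fa

open Module Subgroup Cfsg.Agent.PLocal Cfsg.Agent.PLocal.HH Cfsg.Agent.FT.Rep
open scoped commutatorElement

universe u v

variable {F : Type*} [Field F] {W : Type v} [AddCommGroup W] [Module F W] {Γ : Type u} [Group Γ]
  {ρ : Γ →* End F W} {q : ℕ} {Q : Subgroup Γ} (h : Fa ρ q Q)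
include h

theorem l1 {T : End F W} (h0 : T ≠ 0) (hT : ∀ g ∈ Q, ρ g * T = T * ρ g) {s : Γ}
    (hs : s ∈ normalizer (Q : Set Γ)) (h1 : (ρ s - 1) * T = 0) : s ∈ centralizer (Q : Set Γ) :=
  h.l0 (Y := LinearMap.range T) (mt LinearMap.range_eq_bot.1 h0)
    (by rintro g hg _ ⟨w, rfl⟩; exact ⟨ρ g w, (LinearMap.congr_fun (hT g hg) w).symm⟩) hs
    (by rintro _ ⟨w, rfl⟩; exact sub_eq_zero.1 (LinearMap.congr_fun h1 w))

theorem sub_one_ne {x : Γ} (hx : x ≠ 1) : ρ x - 1 ≠ 0 := fun e =>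
  hx (h.inj ((sub_eq_zero.1 e).trans (map_one ρ).symm))

omit h in
theorem comm_pow {x : Γ} (hx : x ∈ centralizer (Q : Set Γ)) (k : ℕ) :
    ∀ g ∈ Q, ρ g * (ρ x - 1) ^ k = (ρ x - 1) ^ k * ρ g := fun g hg =>
  ((((show Commute g x from hx g hg).map ρ).sub_right (Commute.one_right _)).pow_right k).eq

variable [CharP F 2]

theorem mul_conj_mem {s g : Γ} (hs : s ∈ normalizer (Q : Set Γ)) (h2 : s * s = 1) (hg : g ∈ Q) :
    g * (s * g * s⁻¹) ∈ cen Q s := by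
  refine mem_cen.2 ⟨mul_mem hg (conj_mem hs hg), h.fixmod ⟨1, by rwa [pow_one, pow_two]⟩ ?_⟩
  have := h.comm_mem (conj_mem hs hg) hg
  convert this using 1
  rw [commutatorElement_def, show s * (g * (s * g * s⁻¹)) * s⁻¹ = s * g * s⁻¹ * (s * s * g * (s * s)⁻¹) by
    group, h2]
  group

theorem cent_mul {s t : Γ} (h1 : ∀ g ∈ Q, g * (s * g * s⁻¹) ∈ zc Q)
    (h2 : ∀ g ∈ Q, g * (t * g * t⁻¹) ∈ zc Q) (h3 : ∃ k, (s * t) ^ 2 ^ k = 1) :
    s * t ∈ centralizer (Q : Set Γ) := cent_of_conj fun g hg => h.fixmod h3 (by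
  have := mul_mem (inv_mem (h1 g hg)) (h2 g hg)
  obtain ⟨z, e, hz⟩ : ∃ z, t * g * t⁻¹ = g⁻¹ * z ∧ z ∈ zc Q := ⟨_, by group, h2 g hg⟩
  rw [e, mul_inv_cancel_left, h.central hz] at this
  rw [show s * t * g * (s * t)⁻¹ = s * (t * g * t⁻¹) * s⁻¹ by group, e, h.central hz, ← mul_assoc s,
    h.central hz]
  convert this using 1
  group)

variable [Finite Γ]

omit [CharP F 2] in
theorem nine (h9 : (zc Q).relIndex Q = 9) {τ : Γ} (hτ : τ ∈ normalizer (Q : Set Γ))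
    (h2 : ∃ k, τ ^ 2 ^ k = 1) : cen Q τ ≤ zc Q ∨ τ ∈ centralizer (Q : Set Γ) := by
  rw [or_iff_not_imp_left]
  intro hne
  obtain ⟨x, hx, hxZ⟩ := SetLike.not_le_iff_exists.1 hne
  have e := h.zc_cen hτ h2
  have h1 : zc Q ≤ cen (cen Q τ) x := fun z hz =>
    ⟨(e.ge hz).1, mem_centralizer_singleton_iff.2 (h.central hz x).symm⟩
  rw [← relIndex_mul_relIndex _ _ _ (h1.trans inf_le_left) (inf_le_left : cen Q τ ≤ Q),
    ← relIndex_mul_relIndex _ _ _ h1 (inf_le_left : cen (cen Q τ) x ≤ _)] at h9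
  have h3 : (zc Q).relIndex (cen (cen Q τ) x) ≠ 1 := fun e' =>
    hxZ (relIndex_eq_one.1 e' ⟨hx, mem_centralizer_singleton_iff.2 rfl⟩)
  have h4 : (cen (cen Q τ) x).relIndex (cen Q τ) ≠ 1 := fun e' => hxZ (e.le ⟨hx, fun g hg =>
    mem_centralizer_singleton_iff.1 (relIndex_eq_one.1 e' hg).2⟩)
  have h5 : ∀ a b c : ℕ, a * b * c = 9 → a ≠ 1 → b ≠ 1 → c = 1 := fun a b c h ha hb => by
    have h6 : a ≤ 9 := Nat.le_of_dvd (by norm_num) ⟨b * c, by rw [← h, mul_assoc]⟩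
    have h7 : b ≤ 9 := Nat.le_of_dvd (by norm_num) ⟨a * c, by rw [← h]; ring⟩
    interval_cases a <;> interval_cases b <;> omega
  exact fun g hg => mem_centralizer_singleton_iff.1 (relIndex_eq_one.1 (h5 _ _ _ h9 h3 h4) hg).2

theorem four {f z : Γ} (hf : f ∈ normalizer (Q : Set Γ)) (hz : z ∈ normalizer (Q : Set Γ))
    (hf2 : f * f = 1) (hz2 : z * z = 1) (hc : Commute f z) (h1 : z ∈ centralizer (cen Q f : Set Γ))
    (h2 : z ∈ centralizer (cen Q (f * z) : Set Γ)) : z ∈ centralizer (Q : Set Γ) := by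
  have hz' : ∃ k, z ^ 2 ^ k = 1 := ⟨1, by rwa [pow_one, pow_two]⟩
  have hR := h.fa_rc hz hz'
  have h3 := hR.cent_mul (s := f) (t := z) (fun g hg => by
    have := hR.mul_conj_mem (norm_rc hf hc) hf2 hg
    exact h.cen_rc hz ⟨this.1, mem_centralizer_singleton_iff.2 (h1 _ ⟨rc_le hz this.1, this.2⟩)⟩)
    (fun g hg => h.cen_rc hz (hR.mul_conj_mem (norm_rc hz (Commute.refl z)) hz2 hg))
    ⟨1, by rw [pow_one, hc.mul_pow, pow_two, pow_two, hf2, hz2, one_mul]⟩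
  exact h.cent_of_both hz hz' (fun g hg => h2 g ⟨rc_le hz hg, mem_centralizer_singleton_iff.2 (h3 g hg)⟩)
    fun g hg => mem_centralizer_singleton_iff.1 hg.2

theorem relIndex_le (h9 : (zc Q).relIndex Q = 9) {G : Subgroup Γ} (hG : IsPGroup 2 G)
    (hn : G ≤ normalizer (Q : Set Γ)) : (centralizer (Q : Set Γ)).relIndex G ≤ 8 := by
  obtain ⟨x, hx, hxZ⟩ : ∃ x ∈ Q, x ∉ zc Q := SetLike.not_le_iff_exists.1 fun e => by
    rw [relIndex_eq_one.2 e] at h9; omega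
  let φ : Option (G ⧸ (centralizer (Q : Set Γ)).subgroupOf G) → Q ⧸ (zc Q).subgroupOf Q := fun y =>
    y.elim (QuotientGroup.mk 1) fun y => QuotientGroup.mk ⟨_, conj_mem (hn y.out.2) hx⟩
  have h1 : ∀ a : G, (QuotientGroup.mk 1 : Q ⧸ (zc Q).subgroupOf Q) ≠
      QuotientGroup.mk ⟨_, conj_mem (hn a.2) hx⟩ := fun a e => hxZ (by
    simpa [mul_assoc] using conj_mem (norm_zc (hn (inv_mem a.2))) (mem_subgroupOf.1 (QuotientGroup.eq.1 e)))
  have hφ : Function.Injective φ := by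
    rintro (_ | a) (_ | b) e
    · rfl
    · exact absurd e (h1 _)
    · exact absurd e.symm (h1 _)
    have h2 := conj_mem (norm_zc (hn (inv_mem a.out.2)))
      (mem_subgroupOf.1 (QuotientGroup.eq.1 (show QuotientGroup.mk _ = QuotientGroup.mk _ from e)))
    have h3 := isPGroup_subgroup_iff.1 hG _ (a.out⁻¹ * b.out).2
    refine congrArg some (a.out_eq.symm.trans ((QuotientGroup.eq.2 (mem_subgroupOf.2 ((h.nine h9
      (hn (a.out⁻¹ * b.out).2) h3).resolve_left fun e' =>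
      hxZ (e' (mem_cen.2 ⟨hx, h.fixmod h3 ?_⟩))))).trans b.out_eq))
    have := conj_mem (norm_zc (le_normalizer hx)) h2
    convert this using 1
    simp only [coe_mul, coe_inv]
    group
  have := Nat.card_le_card_of_injective φ hφ
  rw [Finite.card_option] at this
  change (centralizer (Q : Set Γ)).relIndex G + 1 ≤ (zc Q).relIndex Q at this
  omega

end Cfsg.Agent.Bry.Fa
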