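import Cfsg.Agent.Bry.Exp

/-!
# Vectors killed by iterated commutators with the derived series
-/

set_option autoImplicit false
set_option linter.style.haveILetI false

namespace Cfsg.Agent.Bry

open Module Subgroup Cfsg.Agent.PLocal Cfsg.Agent.PLocal.HH Cfsg.Agent.FT.Rep Cfsg.Agent.SolvLin
open scoped commutatorElement

universe u v

variable {F : Type*} [Field F] {W : Type v} [AddCommGroup W] [Module F W] {Γ : Type u} [Group Γ]

/-- The vectors killed by all products `(s_{m-1} - 1) ⋯ (s_0 - 1)` with `s_i` in the `i`-th derived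
subgroup of `S`. -/
def kv (ρ : Γ →* End F W) : ℕ → Subgroup Γ → Submodule F W
  | 0, _ => ⊥
  | m + 1, S => ⨅ s ∈ S, (kv ρ m ⁅S, S⁆).comap (ρ s - 1)

variable {ρ : Γ →* End F W}

theorem mem_kv_zero {S : Subgroup Γ} {w : W} : w ∈ kv ρ 0 S ↔ w = 0 := Submodule.mem_bot F

theorem mem_kv {m : ℕ} {S : Subgroup Γ} {w : W} :
    w ∈ kv ρ (m + 1) S ↔ ∀ s ∈ S, ρ s w - w ∈ kv ρ m ⁅S, S⁆ := by
  simp [kv]

theorem kv_ringHom {F' W' : Type*} [Field F'] [AddCommGroup W'] [Module F' W']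
    (Ψ : End F W →+* End F' W') (m : ℕ) : ∀ (S : Subgroup Γ) (T : End F W), (∀ w, T w ∈ kv ρ m S) →
      ∀ w, Ψ T w ∈ kv (Ψ.toMonoidHom.comp ρ) m S := by
  induction m with
  | zero =>
    intro S T h w
    rw [show T = 0 from LinearMap.ext fun v => mem_kv_zero.1 (h v), map_zero]
    exact Submodule.zero_mem _
  | succ m ih =>
    intro S T h w
    refine mem_kv.2 fun s hs => ?_
    have := ih _ ((ρ s - 1) * T) (fun v => mem_kv.1 (h v) s hs) w
    rwa [map_mul, map_sub, map_one] at this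

theorem kv_im {Γ' : Type*} [Group Γ'] {L : Subgroup Γ} {Y : Submodule F W} {f : L →* Γ'}
    {σ : Γ' →* End F Y} (h : ∀ l w, (σ (f l) w : W) = ρ l w) (m : ℕ) :
    ∀ S ≤ L, ∀ w : Y, (w : W) ∈ kv ρ m S → w ∈ kv σ m (im f S) := by
  induction m with
  | zero => exact fun S _ w hw => mem_kv_zero.2 (Subtype.ext hw)
  | succ m ih =>
    intro S hS w hw
    rw [mem_kv, ← im_commutator f hS hS]
    rintro _ ⟨s, hs, rfl⟩
    exact ih _ ((commutator_le_self S).trans hS) _ (by rw [Submodule.coe_sub, h]; exact mem_kv.1 hw s hs)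

theorem kv_of_disjoint {Y R : Submodule F W} (hd : Disjoint Y R) (m : ℕ) : ∀ S : Subgroup Γ,
    (∀ g ∈ S, ∀ w ∈ Y, ρ g w ∈ Y) → (∀ g ∈ S, ∀ w ∈ R, ρ g w ∈ R) → ∀ w ∈ Y, ∀ r ∈ R,
      w + r ∈ kv ρ m S → w ∈ kv ρ m S := by
  induction m with
  | zero =>
    intro S _ _ w hw r hr h
    exact Submodule.disjoint_def.1 hd w hw (by
      rw [eq_neg_of_add_eq_zero_left (mem_kv_zero.1 h)]; exact R.neg_mem hr)
  | succ m ih =>
    intro S hY hR w hw r hr h
    refine mem_kv.2 fun s hs => ih _ (fun g hg => hY g (commutator_le_self S hg))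
      (fun g hg => hR g (commutator_le_self S hg)) _ (Y.sub_mem (hY s hs w hw) hw) _
      (R.sub_mem (hR s hs r hr) hr) ?_
    have := mem_kv.1 h s hs
    rwa [map_add, add_sub_add_comm] at this

theorem le_of_le_sup_commutator [Finite Γ] {p : ℕ} [Fact p.Prime] {S H : Subgroup Γ} (hS : IsPGroup p S)
    (h : S ≤ ⁅S, S⁆ ⊔ S ⊓ H) : S ≤ H := by
  refine (eq_of_le_sup_frattini inf_le_left (h.trans (sup_le (le_sup_of_le_right ?_) le_sup_left))).ge.trans
    inf_le_right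
  rw [← map_subtype_commutator]
  exact map_mono (Grp.PFrattini.commutator_le_frattini hS)

theorem Pj.level [Finite Γ] {X B : Subgroup Γ} {Y : Submodule F W} (h : Pj ρ X B Y) (h0 : Y ≠ ⊥)
    (hB : ∀ g ∈ B, ∀ w ∈ Y, ρ g w ∈ Y) {S : Subgroup Γ} (hSX : S ≤ X) (hS : IsPGroup 2 S) {N : ℕ}
    (hN : Y ≤ kv ρ N S) : ∃ j m, j + m + 1 = N ∧ ds S j ≤ B ∧ Y ≤ kv ρ (m + 1) (ds S j) := by
  obtain ⟨U, hU, hm⟩ := h
  let R : Subgroup Γ → Submodule F W := fun S =>
    Submodule.span F {v | ∃ g ∈ X, (∀ s ∈ S, s * g ∉ B) ∧ ∃ w ∈ Y, v = ρ g w}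
  have hd : ∀ S, Disjoint Y (R S) := fun S => hU.mono_right (Submodule.span_le.2 (by
    rintro _ ⟨g, hg, h1, w, hw, rfl⟩
    exact hm g hg (one_mul g ▸ h1 1 (one_mem _)) w hw))
  have hR : ∀ S ≤ X, ∀ g ∈ S, ∀ w ∈ R S, ρ g w ∈ R S := fun S hS g hg =>
    (Submodule.span_le.2 (by
      rintro _ ⟨x, hx, h1, w, hw, rfl⟩
      exact Submodule.subset_span ⟨g * x, mul_mem (hS hg) hx,
        fun s hs => mul_assoc s g x ▸ h1 _ (mul_mem hs hg), w, hw, (apply_mul ρ g x w).symm⟩) :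
      R S ≤ (R S).comap (ρ g))
  suffices key : ∀ N, ∀ S ≤ X, IsPGroup 2 S → (∀ w ∈ Y, ∃ r ∈ R S, w + r ∈ kv ρ N S) →
      ∃ j m, j + m + 1 = N ∧ ds S j ≤ B ∧ Y ≤ kv ρ (m + 1) (ds S j) from
    key N S hSX hS fun w hw => ⟨0, Submodule.zero_mem _, (add_zero w).symm ▸ hN hw⟩
  intro N
  induction N with
  | zero =>
    intro S _ _ h1
    refine absurd (eq_bot_iff.2 fun w hw => ?_) h0
    obtain ⟨r, hr, h2⟩ := h1 w hw
    exact Submodule.disjoint_def.1 (hd S) w hw (by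
      rw [eq_neg_of_add_eq_zero_left (mem_kv_zero.1 h2)]; exact Submodule.neg_mem _ hr)
  | succ N ih =>
    intro S hSX hS h1
    by_cases hSB : S ≤ B
    · refine ⟨0, N, by omega, hSB, fun w hw => ?_⟩
      obtain ⟨r, hr, h2⟩ := h1 w hw
      exact kv_of_disjoint (hd S) _ S (fun g hg => hB g (hSB hg)) (hR S hSX) w hw r hr h2
    obtain ⟨s, hs, hsB⟩ : ∃ s ∈ S, ∀ t ∈ ⁅S, S⁆, t * s ∉ B := by
      by_contra hc
      push Not at hc
      refine hSB (le_of_le_sup_commutator hS fun s hs => ?_)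
      obtain ⟨t, ht, h2⟩ := hc s hs
      simpa using mul_mem (mem_sup_left (T := S ⊓ B) (inv_mem ht))
        (mem_sup_right ⟨mul_mem (commutator_le_self S ht) hs, h2⟩)
    obtain ⟨j, m, e, h2⟩ := ih ⁅S, S⁆ ((commutator_le_self S).trans hSX) (hS.to_le (commutator_le_self S))
      fun w hw => by
        obtain ⟨r, hr, h2⟩ := h1 w hw
        have h3 : R S ≤ R ⁅S, S⁆ := Submodule.span_mono fun v ⟨g, hg, h4, h5⟩ =>
          ⟨g, hg, fun t ht => h4 t (commutator_le_self S ht), h5⟩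
        refine ⟨-ρ s w - (ρ s r - r), Submodule.sub_mem _ (Submodule.neg_mem _ (Submodule.subset_span
          ⟨s, hSX hs, hsB, w, hw, rfl⟩)) (h3 (Submodule.sub_mem _ (hR S hSX s hs r hr) hr)), ?_⟩
        convert Submodule.neg_mem _ (mem_kv.1 h2 s hs) using 1
        rw [map_add]
        abel
    refine ⟨1 + j, m, by omega, ?_⟩
    rwa [← ds_add]

end Cfsg.Agent.Bry
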