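import Cfsg.Agent.Bry.Kv

/-!
# Configurations for the derived length bound and their normalization
-/

set_option autoImplicit false
set_option linter.style.haveILetI false

namespace Cfsg.Agent.Bry

open Module Subgroup Cfsg.Agent.PLocal Cfsg.Agent.PLocal.HH Cfsg.Agent.FT.Rep Cfsg.Agent.SolvLin
open scoped commutatorElement

universe u v

variable {F : Type*} [Field F] {W : Type v} [AddCommGroup W] [Module F W] {Γ : Type u} [Group Γ]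

/-- A `2`-group `P` acting on a faithful critical configuration, with a normal subgroup `D`. -/
structure Cf (ρ : Γ →* End F W) (q : ℕ) (Q P D : Subgroup Γ) (Y : Submodule F W) (m : ℕ) : Prop where
  fa : Fa ρ q Q
  two : IsPGroup 2 P
  nQ : P ≤ normalizer (Q : Set Γ)
  le : D ≤ P
  nD : P ≤ normalizer (D : Set Γ)
  ne : Y ≠ ⊥
  invQ : ∀ g ∈ Q, ∀ w ∈ Y, ρ g w ∈ Y
  invP : ∀ g ∈ P, ∀ w ∈ Y, ρ g w ∈ Y
  van : Y ≤ kv ρ (m + 1) D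

/-- The exceptional case. -/
structure Exc (Q P D : Subgroup Γ) : Prop where
  sq : ∀ a ∈ ⁅D, D⁆, a ^ 2 ∈ centralizer (Q : Set Γ)
  inv : ∀ τ ∈ P, τ ^ 2 ∈ centralizer (Q : Set Γ) → ∀ d ∈ D, ⁅τ, d⁆ ∈ centralizer (Q : Set Γ)
  nine : ∀ a ∈ ⁅D, D⁆, cen Q a ≤ zc Q → ¬ Q ≤ zc Q → (zc Q).relIndex Q = 9

/-- The conclusion of the main lemma. -/
def Concl (Q P D : Subgroup Γ) (m : ℕ) : Prop :=
  ds D m ≤ centralizer (Q : Set Γ) ∨ (m = 1 ∧ Exc Q P D)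

/-- The existence of an involution inverting `Q / Z(Q)`. -/
def Bad (Q P D : Subgroup Γ) (m : ℕ) : Prop :=
  ∃ z ∈ ds D m, z ∉ centralizer (Q : Set Γ) ∧ z ^ 2 ∈ centralizer (Q : Set Γ) ∧
    (∀ p ∈ P, ⁅p, z⁆ ∈ centralizer (Q : Set Γ)) ∧ cen Q z ≤ zc Q

theorem Cf.norm [CharP F 2] [Finite Γ] {ρ : Γ →* End F W} {q : ℕ} {Q P D : Subgroup Γ}
    {Y : Submodule F W} {m : ℕ} (h : Cf ρ q Q P D Y m) :
    ∃ (Y' : Submodule F W) (Γ' : Type u) (_ : Group Γ') (_ : Finite Γ') (σ : Γ' →* End F Y')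
      (Q' P' D' : Subgroup Γ'), Cf σ q Q' P' D' ⊤ m ∧ (∀ p ∈ P', p ∈ centralizer (Q' : Set Γ') → p = 1) ∧
      (Concl Q' P' D' m → Concl Q P D m) ∧ (Bad Q P D m → Bad Q' P' D' m) := by
  set K := P ⊓ centralizer (Q : Set Γ)
  have hK : P ≤ normalizer (K : Set Γ) :=
    Solv.le_normalizer_inf le_normalizer (Solv.le_normalizer_centralizer h.nQ)
  have h0 : Y ⊓ fix ρ K ≠ ⊥ := by
    obtain ⟨w, hw, hw0, h1⟩ := exists_fix ρ (K := K) (h.two.to_le inf_le_left) h.ne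
      fun g hg => h.invP g hg.1
    exact (Submodule.ne_bot_iff _).2 ⟨w, ⟨hw, h1⟩, hw0⟩
  have hQ : ∀ g ∈ Q, ∀ w ∈ Y ⊓ fix ρ K, ρ g w ∈ Y ⊓ fix ρ K := fun g hg w hw =>
    ⟨h.invQ g hg w hw.1, fun k hk => by rw [← apply_mul, ← hk.2 g hg, apply_mul, hw.2 k hk]⟩
  obtain ⟨Γ', _, _, f, σ, -, hfa, hσ, hZ⟩ := red_fa (h.fa.red h.nQ h0 hQ fun g hg w hw =>
    ⟨h.invP g hg w hw.1, apply_mem_fix ρ (hK hg) hw.2⟩) h.fa.pr h.fa.ne
  have hPL : P ≤ P ⊔ Q := le_sup_left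
  have hDL := h.le.trans hPL
  have hi : ∀ t : (P ⊔ Q : Subgroup Γ), (t : Γ) ∈ Q → f t = 1 → (t : Γ) = 1 := fun t ht e =>
    h.fa.eq_one h0 hQ ht fun w hw => by rw [← hσ t ⟨w, hw⟩, e, map_one]; rfl
  have hc : ∀ p : (P ⊔ Q : Subgroup Γ), (p : Γ) ∈ P → ∀ t : (P ⊔ Q : Subgroup Γ), (t : Γ) ∈ Q →
      f p * f t * (f p)⁻¹ = f t → (p : Γ) * t * (p : Γ)⁻¹ = t := fun p hp t ht e =>
    mul_inv_eq_one.1 (hi (p * t * p⁻¹ * t⁻¹) (mul_mem (conj_mem (h.nQ hp) ht) (inv_mem ht))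
      (by rw [map_mul, map_mul, map_mul, map_inv, map_inv, e, mul_inv_cancel]))
  have h1 : ∀ p : (P ⊔ Q : Subgroup Γ), (p : Γ) ∈ P → f p ∈ centralizer (im f Q : Set Γ') →
      (p : Γ) ∈ centralizer (Q : Set Γ) := fun p hp e => cent_of_conj fun t ht =>
    hc p hp ⟨t, mem_sup_right ht⟩ ht (conj_eq_of_cent e (mem_im f ht))
  have h2 : ∀ p : (P ⊔ Q : Subgroup Γ), (p : Γ) ∈ P → (p : Γ) ∈ centralizer (Q : Set Γ) → f p = 1 :=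
    fun p hp e => hfa.inj (LinearMap.ext fun w => Subtype.ext (by
      rw [hσ, map_one]; exact w.2.2 p ⟨hp, e⟩))
  have h3 : ∀ a : (P ⊔ Q : Subgroup Γ), (a : Γ) ∈ P → cen Q a ≤ zc Q →
      cen (im f Q) (f a) ≤ zc (im f Q) := by
    rintro a ha e _ ⟨⟨t, ht, rfl⟩, h4⟩
    exact ⟨mem_im f ht, (hZ t ht).2 (e (mem_cen.2 ⟨ht, hc a ha t ht (mem_cen.1 ⟨mem_im f ht, h4⟩).2⟩))⟩
  have h4 : ∀ {n} {a : Γ} (ha : a ∈ ds D n), f ⟨a, hDL (ds_le D n ha)⟩ ∈ ds (im f D) n := fun ha =>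
    im_ds f hDL _ ▸ mem_im f ha
  refine ⟨_, Γ', _, inferInstance, σ, im f Q, im f P, im f D, ⟨hfa, im_isPGroup f h.two,
    im_normalizer f h.nQ, im_mono f h.le, im_normalizer f h.nD, ?_, fun _ _ _ _ => trivial,
    fun _ _ _ _ => trivial, fun w _ => kv_im hσ _ D hDL w (h.van w.2.1)⟩, ?_, fun e => e.imp
    (fun e a ha => h1 ⟨a, _⟩ (h.le (ds_le D m ha)) (e (h4 ha))) (And.imp_right fun e => ⟨fun a ha => ?_,
    fun τ hτ h5 d hd => ?_, fun a ha h5 h6 => ?_⟩), ?_⟩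
  · haveI := hfa.nt
    exact top_ne_bot
  · rintro _ ⟨p, hp, rfl⟩ e
    exact h2 p hp (h1 p hp e)
  · exact h1 ((⟨a, hDL (ds_le D 1 ha)⟩ : (P ⊔ Q : Subgroup Γ)) ^ 2) (pow_mem (h.le (ds_le D 1 ha)) 2) (map_pow f _ 2 ▸ e.sq _ (h4 (n := 1) ha))
  · refine h1 ⁅(⟨τ, hPL hτ⟩ : (P ⊔ Q : Subgroup Γ)), ⟨d, hDL hd⟩⁆
      (commutator_le_self P (commutator_mem_commutator hτ (h.le hd))) ?_
    rw [map_commutatorElement]
    refine e.inv _ (mem_im f hτ) ?_ _ (mem_im f hd)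
    rw [← map_pow, h2 _ (pow_mem hτ 2) h5]
    exact one_mem _
  · have := e.nine _ (h4 (n := 1) ha) (h3 _ (h.le (ds_le D 1 ha)) h5) fun e' => h6 fun t ht =>
      (hZ ⟨t, mem_sup_right ht⟩ ht).1 (e' (mem_im f ht)).2
    rw [im, ← relIndex_comap, ← inf_relIndex_right] at this
    rw [← this, ← relIndex_subgroupOf (le_sup_right : Q ≤ P ⊔ Q)]
    congr 1
    ext t
    exact ⟨fun ht => ⟨⟨mem_im f ht.1, (hZ t ht.1).2 ht⟩, ht.1⟩, fun ht => (hZ t ht.2).1 ht.1.2⟩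
  · rintro ⟨z, hz, h5, h6, h7, h8⟩
    have hzP := h.le (ds_le D m hz)
    refine ⟨_, h4 hz, fun e => h5 (h1 _ hzP e), ?_, ?_, h3 _ hzP h8⟩
    · rw [← map_pow, h2 _ (pow_mem hzP 2) h6]
      exact one_mem _
    · rintro _ ⟨p, hp, rfl⟩
      rw [← map_commutatorElement, h2 _ (commutator_le_self P (commutator_mem_commutator (g₁ := (p : Γ)) hp hzP))
        (h7 p hp)]
      exact one_mem _

end Cfsg.Agent.Bry
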