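import Cfsg.Agent.FGS.Gross
import Cfsg.Agent.Block.NormalPNil
import Cfsg.Agent.Grp.MinNormal
import Cfsg.Agent.S0094
import Cfsg.Agent.S0205

/-!
# The `2`-length of solvable groups: the inductive set-up
-/

set_option autoImplicit false
set_option linter.style.haveILetI false

namespace Cfsg.Agent.Bry

open Module Subgroup Cfsg.Agent.PLocal Cfsg.Agent.PLocal.HH
open scoped commutatorElement IsMulCommutative

universe u

theorem solvable_of_two (n : ℕ) : ∀ (G : Type u) [Group G] [Finite G], Nat.card G = n →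
    IsPSolvable 2 G → Group.IsSolvable G := by
  induction n using Nat.strong_induction_on with | _ n ih
  intro G _ _ hn h
  cases subsingleton_or_nontrivial G
  · infer_instance
  obtain ⟨M, _, h0, hM⟩ := IsPSolvable.exists_normal h
  haveI := ih _ (hn ▸ Grp.card_quotient_lt M h0) (G ⧸ M) rfl (IsPSolvable.quotient h M)
  haveI : Group.IsSolvable M := hM.elim Solv.isSolvable_of_isPGroup fun h1 =>
    S0205.result (Nat.coprime_two_right.1 h1)
  exact Group.isSolvable_of_ker_le_range M.subtype (QuotientGroup.mk' M) (by simp)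

theorem len_of_ker_le {G H K : Type*} [Group G] [Group H] [Finite H] [Group K] {p k : ℕ}
    (h : PLengthLE p k H) {g : G →* H} (hg : Function.Surjective g) {φ : G →* K}
    (hφ : Function.Surjective φ) (hk : g.ker ≤ φ.ker) : PLengthLE p k K :=
  PLengthLE.of_surjective h (g.liftOfSurjective hg ⟨φ, hk⟩) fun y => by
    obtain ⟨x, rfl⟩ := hφ y
    exact ⟨g x, g.liftOfRightInverse_comp_apply _ _ _ x⟩

theorem len_prod {p : ℕ} (k : ℕ) : ∀ {A B : Type u} [Group A] [Finite A] [Group B] [Finite B],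
    PLengthLE p k A → PLengthLE p k B → PLengthLE p k (A × B) := by
  induction k with
  | zero =>
    intro A B _ _ _ _ h1 h2
    rw [pLengthLE_zero_iff] at *
    rw [Nat.card_prod]
    exact h1.mul_left h2
  | succ k ih =>
    intro A B _ _ _ _ h1 h2
    rw [pLengthLE_succ_iff] at *
    refine len_of_ker_le (ih h1 h2) (g := (QuotientGroup.mk' _).prodMap (QuotientGroup.mk' _))
      ((QuotientGroup.mk'_surjective _).prodMap (QuotientGroup.mk'_surjective _))
      (QuotientGroup.mk'_surjective _) ?_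
    rw [MonoidHom.ker_prodMap, QuotientGroup.ker_mk', QuotientGroup.ker_mk', QuotientGroup.ker_mk',
      ← relCore_pPrimeCore (G := A × B), le_relCore_iff]
    intro x hx
    obtain ⟨a, ha⟩ := (le_relCore_iff (N := pPrimeCore p A)).1 le_rfl x.1 hx.1
    obtain ⟨b, hb⟩ := (le_relCore_iff (N := pPrimeCore p B)).1 le_rfl x.2 hx.2
    refine ⟨a + b, Grp.le_pPrimeCore (N := (pPrimeCore p A).prod (pPrimeCore p B)) inferInstance ?_
      ⟨?_, ?_⟩⟩
    · rw [Nat.card_congr (prodEquiv _ _).toEquiv, Nat.card_prod]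
      exact (Grp.pPrimeCore_coprime p A).mul_left (Grp.pPrimeCore_coprime p B)
    · rw [pow_add, pow_mul]
      exact pow_mem ha _
    · rw [pow_add, mul_comm, pow_mul]
      exact pow_mem hb _

theorem exists_residual {G : Type u} [Group G] [Finite G] {p k : ℕ} (h : ¬ PLengthLE p k G) :
    ∃ Y : Subgroup G, Y.Normal ∧ Y ≠ ⊥ ∧ ∀ (M : Type u) [Group M] [Finite M] (f : G →* M),
      PLengthLE p k M → Y ≤ f.ker := by
  obtain ⟨Y, -, ⟨M, _, _, f, hM, rfl⟩, hmin⟩ := Finite.exists_le_minimal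
    (p := fun Y : Subgroup G => ∃ (M : Type u) (_ : Group M) (_ : Finite M) (f : G →* M),
      PLengthLE p k M ∧ f.ker = Y) (a := ⊤) ⟨PUnit, _, inferInstance, 1,
      PLengthLE.mono (pLengthLE_zero_iff.2 (by simp)) k.zero_le, MonoidHom.ker_one⟩
  refine ⟨_, inferInstance, fun e => h (PLengthLE.of_injective hM f (f.ker_eq_bot_iff.1 e)),
    fun M' _ _ f' h' => (hmin (y := f.ker ⊓ f'.ker) ⟨_, _, inferInstance, f.prod f',
      len_prod k hM h', MonoidHom.ker_prod f f'⟩ inf_le_left).trans inf_le_right⟩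

theorem exists_fix {F W Γ : Type*} [Field F] [CharP F 2] [AddCommGroup W] [Module F W] [Group Γ]
    [Finite Γ] (ρ : Γ →* End F W) {K : Subgroup Γ} (hK : IsPGroup 2 K) {Y : Submodule F W}
    (h0 : Y ≠ ⊥) (hY : ∀ g ∈ K, ∀ w ∈ Y, ρ g w ∈ Y) : ∃ w ∈ Y, w ≠ 0 ∧ ∀ g ∈ K, ρ g w = w := by
  obtain ⟨σ, hσ⟩ := exists_restrict ρ K Y hY
  haveI := Submodule.nontrivial_iff_ne_bot.2 h0
  obtain ⟨v, hv, h⟩ := Block.exists_fixed_ne_zero hK (fun v : Y => by
    rw [← Nat.cast_smul_eq_nsmul F, CharP.cast_eq_zero, zero_smul]) σ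
  exact ⟨v, v.2, fun e => hv (Subtype.ext e), fun g hg =>
    (hσ ⟨g, hg⟩ v).symm.trans (congrArg Subtype.val (h ⟨g, hg⟩))⟩

variable {Γ : Type u} [Group Γ] [Finite Γ]

theorem exists_odd [Group.IsSolvable Γ] {k : ℕ} (h : ¬ PLengthLE 2 (k + 1) Γ) :
    ∃ X T R : Subgroup Γ, R ≤ X ∧ X ≤ normalizer (T : Set Γ) ∧ X ≤ normalizer (R : Set Γ) ∧
      IsPGroup 2 T ∧ (Nat.card R).Coprime 2 ∧ ⁅T, R⁆ ≠ ⊥ ∧
      ∀ L : Subgroup Γ, X ≤ L → L ≤ normalizer (T : Set Γ) → ∀ (M : Type u) [Group M] [Finite M]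
        (f : L →* M), pCore 2 M = ⊥ → (centralizer (T : Set Γ)).subgroupOf L ≤ f.ker →
        Function.Surjective f → PLengthLE 2 k M → R.subgroupOf L ≤ f.ker := by
  set U := pPrimePCore 2 Γ
  let ψ := QuotientGroup.mk' U
  obtain ⟨Y, _, hY0, hY⟩ := exists_residual (mt pLengthLE_succ_iff.2 h)
  obtain ⟨r, R₁, hr, _, hR0, hRY, -, -, hRp, -⟩ := Grp.exists_minNormal_elementaryAbelian_le Y hY0
  haveI := Fact.mk hr
  have hr2 : r ≠ 2 := by
    rintro rfl
    exact hR0 (le_bot_iff.1 (pCore_quotient_pPrimePCore (G := Γ) ▸ Grp.le_pCore ‹_› hRp))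
  obtain ⟨S⟩ : Nonempty (Sylow 2 Γ) := inferInstance
  set T := (S : Subgroup Γ) ⊓ U
  have hT : IsSylowIn 2 T U := (isSylowIn_top S).inf_normal le_top le_normalizer_of_normal
  set N := normalizer (T : Set Γ)
  have h1 : ∀ L : Subgroup Γ, (∀ g ∈ N, ∃ u ∈ U, ∃ x ∈ L, g = u * x) →
      Function.Surjective (ψ.comp L.subtype) := fun L hL y => by
    obtain ⟨y, rfl⟩ := QuotientGroup.mk'_surjective U y
    obtain ⟨u, hu, n, hn, rfl⟩ := hT.frattini (g := y) (le_normalizer_of_normal (mem_top _))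
    obtain ⟨u', hu', x, hx, rfl⟩ := hL n hn
    exact ⟨⟨x, hx⟩, by simp [ψ, (QuotientGroup.eq_one_iff _).2 hu, (QuotientGroup.eq_one_iff _).2 hu']⟩
  obtain ⟨R₀, hR₀, hmap⟩ := exists_isPGroup_map_eq _ (h1 N fun g hg => ⟨1, one_mem _, g, hg,
    (one_mul g).symm⟩) hRp
  obtain ⟨R, hR, hRR⟩ := exists_isSylowIn_ge (H := N ⊓ R₁.comap ψ) (hR₀.map N.subtype)
    (le_inf (map_subtype_le _) (by rw [← map_le_iff_le_comap, map_map, hmap]))
  have h2 : R.map ψ = R₁ := le_antisymm (map_le_iff_le_comap.2 (hR.le.trans inf_le_right))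
    (by rw [← hmap, ← map_map]; exact map_mono hRR)
  refine ⟨N ⊓ normalizer (R : Set Γ), T, R, le_inf (hR.le.trans inf_le_left) le_normalizer,
    inf_le_left, inf_le_right, hT.isPGroup, Grp.coprime_card_of_isPGroup_of_ne hr2 hR.isPGroup,
    fun e => hR0 ?_, fun L hL hLN M _ _ f hO hC hf hM => ?_⟩
  · rw [← h2, Subgroup.map_eq_bot_iff, QuotientGroup.ker_mk']
    rw [commutator_comm, commutator_eq_bot_iff_le_centralizer] at e
    exact e.trans (IsPConstrained.centralizer_sylow_inf_le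
      (isPConstrained_of_isPSolvable isPSolvable_of_isSolvable) S)
  have hs := h1 L fun g hg => by
    obtain ⟨a, ha, n, hn, rfl⟩ := hR.frattini (g := g)
      (Solv.le_normalizer_inf le_normalizer le_normalizer_of_normal hg)
    obtain ⟨b, hb, e⟩ := h2.ge ha.2
    refine ⟨a * b⁻¹, (QuotientGroup.eq_one_iff _).1 (mul_inv_eq_one.2 e.symm), b * n,
      hL ⟨N.mul_mem (hR.le hb).1 ((N.mul_mem_cancel_left ha.1).1 hg),
        mul_mem (le_normalizer hb) hn⟩, by group⟩
  have hk : (ψ.comp L.subtype).ker ≤ f.ker := by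
    rw [← Subgroup.map_eq_bot_iff, ← le_bot_iff, ← hO]
    refine Grp.le_pCore (Normal.map inferInstance f hf) (isPGroup_subgroup_iff.2 ?_)
    rintro _ ⟨x, hx, rfl⟩
    obtain ⟨j, hj⟩ := (le_relCore_iff (N := pPrimeCore 2 Γ)).1 le_rfl x
      ((QuotientGroup.eq_one_iff _).1 hx)
    refine ⟨j, (map_pow f x _).symm.trans (hC fun t ht => commutatorElement_eq_one_iff_mul_comm.1
      (mem_bot.1 ((disjoint_of_coprime_natCard (Solv.coprime_card_of_isPGroup hT.isPGroup
      (Grp.pPrimeCore_coprime 2 Γ))).le_bot ⟨?_, Solv.commutator_le_of_le_normalizer hLN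
      (commutator_mem_commutator ht (x ^ 2 ^ j).2)⟩)))⟩
    exact commutator_le_right ⊤ _ (commutator_mem_commutator (mem_top t) hj)
  intro x hx
  have := hY M ((ψ.comp _).liftOfSurjective hs ⟨f, hk⟩) hM (hRY (h2.le ⟨x, hx, rfl⟩))
  exact ((ψ.comp _).liftOfRightInverse_comp_apply _ _ ⟨f, hk⟩ x).symm.trans this

theorem eq_of_le_sup_frattini {T U : Subgroup Γ} (hU : U ≤ T)
    (h : T ≤ U ⊔ (frattini T).map T.subtype) : U = T := by
  have : U.subgroupOf T = ⊤ := frattini_nongenerating (map_injective T.subtype_injective (by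
    rw [Subgroup.map_sup, map_subgroupOf_eq_of_le hU, ← MonoidHom.range_eq_map, range_subtype]
    exact le_antisymm (sup_le hU (map_subtype_le _)) h))
  exact le_antisymm hU (subgroupOf_eq_top.1 this)

/-- The data passed to the inductive hypothesis. -/
structure Ind (k : ℕ) (X T : Subgroup Γ) {M V : Type u} [Group M] [AddCommGroup V]
    [Module (ZMod 2) V] (σ : M →* End (ZMod 2) V) (f : X →* M) (π : Γ → V) : Prop where
  le : T ≤ X
  nT : X ≤ normalizer (T : Set Γ)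
  two : IsPGroup 2 T
  ne : T ≠ ⊥
  four : ∀ a ∈ T, a ^ 4 = 1
  inj : Function.Injective σ
  core : pCore 2 M = ⊥
  len : ¬ PLengthLE 2 k M
  surj : Function.Surjective f
  onto : ∀ v, ∃ a ∈ T, π a = v
  add : ∀ a ∈ T, ∀ b ∈ T, π (a * b) = π a + π b
  conj : ∀ x : X, ∀ a ∈ T, π (x * a * (x : Γ)⁻¹) = σ (f x) (π a)
  irr : ∀ U ≤ T, X ≤ normalizer (U : Set Γ) → (∃ a ∈ U, π a ≠ 0) → U = T

theorem setup [Group.IsSolvable Γ] {k : ℕ} (h : ¬ PLengthLE 2 (k + 1) Γ) :
    ∃ (X T : Subgroup Γ) (M V : Type u) (_ : Group M) (_ : Finite M) (_ : AddCommGroup V)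
      (_ : Module (ZMod 2) V) (_ : Finite V) (σ : M →* End (ZMod 2) V) (f : X →* M) (π : Γ → V),
      Ind k X T σ f π := by
  classical
  obtain ⟨X, T₀, R, hRX, hXT₀, hXR, hT₀, hR, hnt, hlen⟩ := exists_odd h
  obtain ⟨T, hTT, hXT, hnt', hmin⟩ := exists_minimal_not_centralized hXT₀ hnt
  have hT := hT₀.to_le hTT
  obtain ⟨h1, hst, hirr, -⟩ := S3736.result X R T hT hXT hRX hXR hR hnt' hmin
  set Φ := (frattini T).map T.subtype
  set L := X ⊔ T
  have hTL : T ≤ L := le_sup_right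
  have hLT : L ≤ normalizer (T : Set Γ) := sup_le hXT le_normalizer
  have hΦ : normalizer (T : Set Γ) ≤ normalizer (Φ : Set Γ) :=
    Grp.normalizer_le_normalizer_map_of_characteristic T _
  haveI : (T.subgroupOf L).Normal := (normal_subgroupOf_iff_le_normalizer hTL).2 hLT
  haveI : (Φ.subgroupOf L).Normal := (normal_subgroupOf_iff_le_normalizer
    ((map_subtype_le _).trans hTL)).2 (hLT.trans hΦ)
  let g := QuotientGroup.mk' (Φ.subgroupOf L)
  haveI := Normal.map (H := T.subgroupOf L) inferInstance g (QuotientGroup.mk'_surjective _)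
  have hV : IsElementaryAbelian 2 ((T.subgroupOf L).map g) := by
    refine ⟨⟨⟨?_⟩⟩, ?_⟩
    · rintro ⟨_, a, ha, rfl⟩ ⟨_, b, hb, rfl⟩
      exact Subtype.ext (commutatorElement_eq_one_iff_mul_comm.1 ((map_commutatorElement g a b).symm.trans
        ((QuotientGroup.eq_one_iff _).2 ⟨⁅⟨a, ha⟩, ⟨b, hb⟩⁆, Grp.PFrattini.commutator_le_frattini hT
        (commutator_mem_commutator (mem_top _) (mem_top _)), rfl⟩)))
    · rintro _ ⟨a, ha, rfl⟩
      exact (map_pow g a 2).symm.trans ((QuotientGroup.eq_one_iff _).2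
        ⟨⟨a, ha⟩ ^ 2, Grp.PFrattini.pow_mem_frattini hT _, rfl⟩)
  let ρ : L →* End (ZMod 2) (EA hV) :=
    (EA.rep hV ⊤ le_normalizer_of_normal).comp (g.codRestrict ⊤ fun _ => mem_top _)
  let π : Γ → EA hV := fun a => if h : a ∈ T then EA.of hV (g ⟨a, hTL h⟩) ⟨_, h, rfl⟩ else 0
  have hπ : ∀ a (h : a ∈ T), (π a).val = g ⟨a, hTL h⟩ := fun a h => by simp only [π, dif_pos h]; rfl
  have onto : ∀ v, ∃ a ∈ T, π a = v := fun v => by
    obtain ⟨a, ha, e⟩ := v.val_mem
    exact ⟨a, ha, EA.ext ((hπ a ha).trans e)⟩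
  have add : ∀ a ∈ T, ∀ b ∈ T, π (a * b) = π a + π b := fun a ha b hb => EA.ext (by
    rw [EA.val_add, hπ a ha, hπ b hb, hπ _ (T.mul_mem ha hb), ← map_mul]; rfl)
  have conj : ∀ x : L, ∀ a ∈ T, π (x * a * (x : Γ)⁻¹) = ρ x (π a) := fun x a ha => EA.ext (by
    rw [hπ _ ((mem_normalizer_iff.1 (hLT x.2) a).1 ha)]
    change _ = g x * (π a).val * (g x)⁻¹
    rw [hπ a ha, ← map_inv, ← map_mul, ← map_mul]; rfl)
  have h0 : ∀ a ∈ T, π a = 0 ↔ a ∈ Φ := fun a ha => by
    rw [← EA.val_eq_one_iff, hπ a ha]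
    exact QuotientGroup.eq_one_iff _
  have irr : ∀ U ≤ T, L ≤ normalizer (U : Set Γ) → (∃ a ∈ U, π a ≠ 0) → U = T :=
    fun U hU hLU ⟨a, ha, ha0⟩ => eq_of_le_sup_frattini hU ((hirr _ le_sup_right
      (sup_le hU (map_subtype_le _)) (Solv.le_normalizer_sup (le_sup_left.trans hLU)
      (hXT.trans hΦ))).resolve_left fun e => ha0 ((h0 a (hU ha)).2 (e.le (mem_sup_left ha)))).ge
  let σ : L ⧸ ρ.ker →* End (ZMod 2) (EA hV) := QuotientGroup.lift ρ.ker ρ le_rfl
  have inj : Function.Injective σ := (injective_iff_map_eq_one σ).2 fun a ha => by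
    obtain ⟨a, rfl⟩ := QuotientGroup.mk_surjective a
    exact (QuotientGroup.eq_one_iff a).2 ha
  have core : pCore 2 (L ⧸ ρ.ker) = ⊥ := eq_bot_iff.2 fun m hm => inj (LinearMap.ext fun v => by
    by_contra hv
    obtain ⟨w, -, hw, hfix⟩ := exists_fix σ (Grp.pCore_isPGroup 2 _) (Y := ⊤)
      (fun e => hv (by rw [(Submodule.mem_bot _).1 (e.le (Submodule.mem_top (x := v))), map_zero,
        map_zero])) fun _ _ _ _ => trivial
    let U : Subgroup Γ :=
      { carrier := {a | a ∈ T ∧ ∀ m ∈ pCore 2 (L ⧸ ρ.ker), σ m (π a) = π a}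
        one_mem' := ⟨one_mem _, fun m _ => by rw [(h0 1 (one_mem _)).2 (one_mem _), map_zero]⟩
        mul_mem' := fun {a b} ha hb => ⟨mul_mem ha.1 hb.1, fun m hm => by
          rw [add a ha.1 b hb.1, map_add, ha.2 m hm, hb.2 m hm]⟩
        inv_mem' := fun {a} ha => ⟨inv_mem ha.1, fun m hm => by
          have := add a ha.1 _ (inv_mem ha.1)
          rw [mul_inv_cancel, (h0 1 (one_mem _)).2 (one_mem _), eq_comm, add_eq_zero_iff_neg_eq] at this
          rw [← this, map_neg, ha.2 m hm]⟩ }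
    obtain ⟨a, ha, rfl⟩ := onto w
    obtain ⟨b, hb, rfl⟩ := onto v
    have := irr U (fun _ h => h.1) (fun x hx => mem_normalizer_fintype fun c hc =>
      ⟨(mem_normalizer_iff.1 (hLT hx) c).1 hc.1, fun m hm => by
        have e := conj ⟨x, hx⟩ c hc.1
        have := hc.2 _ ((inferInstance : (pCore 2 (L ⧸ ρ.ker)).Normal).conj_mem' m hm
          (QuotientGroup.mk ⟨x, hx⟩))
        rw [e]
        change σ m (σ (QuotientGroup.mk ⟨x, hx⟩) _) = σ (QuotientGroup.mk ⟨x, hx⟩) _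
        conv_rhs => rw [← this]
        rw [← FT.Rep.apply_mul, ← FT.Rep.apply_mul, mul_assoc, mul_inv_cancel_left]⟩) ⟨a, ⟨ha, hfix⟩, hw⟩
    exact hv (by rw [map_one]; exact (this.ge hb).2 m hm))
  have ne : T ≠ ⊥ := fun e => hnt' (by rw [e, commutator_bot_left])
  refine ⟨L, T, L ⧸ ρ.ker, EA hV, _, inferInstance, _, _, inferInstance, σ, QuotientGroup.mk' _, π,
    hTL, hLT, hT, ne, fun a ha => ?_, inj, core, fun hM => ne (eq_of_le_sup_frattini bot_le ?_).symm,
    QuotientGroup.mk'_surjective _, onto, add, conj, irr⟩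
  · rw [show 4 = 2 * 2 from rfl, pow_mul]
    rcases hst with h | h
    · rw [h.2 a ha, one_pow]
    · exact congrArg Subtype.val (S0094.result h (⟨a, ha⟩ ^ 2)
        (h.2.1 ▸ Grp.PFrattini.pow_mem_frattini hT _))
  have h2 := hlen L le_sup_left (sup_le hXT₀ (hTT.trans le_normalizer)) _ (QuotientGroup.mk' _) core
    (fun x hx => (QuotientGroup.eq_one_iff _).2 (LinearMap.ext fun v => by
      obtain ⟨a, ha, rfl⟩ := onto v
      rw [← conj x a ha, show x * a = a * x from (hx a (hTT ha)).symm, mul_inv_cancel_right]; rfl))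
    (QuotientGroup.mk'_surjective _) hM
  refine (h1.ge.trans (commutator_comm T R).le).trans (commutator_le.2 fun r hr a ha => mem_sup_right ?_)
  have h3 := (mem_normalizer_iff.1 (hXT (hRX hr)) a).1 ha
  have h4 := add _ (T.mul_mem h3 (inv_mem ha)) a ha
  have h5 := conj ⟨r, mem_sup_left (hRX hr)⟩ a ha
  rw [show ρ ⟨r, mem_sup_left (hRX hr)⟩ = 1 from (QuotientGroup.eq_one_iff _).1 (h2 hr)] at h5
  rw [inv_mul_cancel_right] at h4
  exact (h0 _ (T.mul_mem h3 (inv_mem ha))).1 (add_eq_right.1 (h4.symm.trans h5))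

end Cfsg.Agent.Bry
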