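import Cfsg.Agent.Bry.Norm
import Cfsg.Agent.SolvLin.Deg
import Cfsg.Agent.Grp.UniqueOrderP
import Cfsg.Agent.FT.Metacyclic

/-!
# Lemmas on `2`-groups
-/

set_option autoImplicit false
set_option linter.style.haveILetI false

namespace Cfsg.Agent.Bry

open Subgroup Cfsg.Agent.PLocal Cfsg.Agent.SolvLin
open scoped commutatorElement

theorem mem_zp {G : Type*} [Group G] {z x : G} (hz : z * z = 1) (hx : x ∈ zpowers z) : x = 1 ∨ x = z := by
  obtain ⟨k, rfl⟩ := hx
  rcases Int.even_or_odd' k with ⟨j, rfl | rfl⟩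
  · exact Or.inl (by simp only [zpow_mul, zpow_two, hz, one_zpow])
  · exact Or.inr (by simp only [zpow_add, zpow_mul, zpow_two, hz, one_zpow, zpow_one, one_mul])

theorem lemZ {D : Type*} [Group D] [Finite D] (hD : IsPGroup 2 D) {z : D} (hz : z * z = 1)
    (hna : ¬ commutator D ≤ centralizer (commutator D : Set D)) :
    ∃ e ∈ commutator D, e * e = 1 ∧ e ∉ zpowers z ∧ ∀ g, ⁅e, g⁆ ∈ zpowers z := by
  haveI := hD.isNilpotent
  set Z := commutator D ⊓ centralizer (commutator D : Set D)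
  by_cases hA : ∃ v ∈ Z, v * v = 1 ∧ v ∉ zpowers z
  · let Ω : Subgroup D :=
      { carrier := {x | x ∈ Z ∧ x * x = 1}
        one_mem' := ⟨one_mem _, mul_one _⟩
        mul_mem' := fun {a b} ha hb => ⟨mul_mem ha.1 hb.1, by
          rw [mul_assoc, ← mul_assoc b, ← hb.1.2 a ha.1.1, mul_assoc, hb.2, mul_one, ha.2]⟩
        inv_mem' := fun {a} ha => ⟨inv_mem ha.1, by rw [← mul_inv_rev, ha.2, inv_one]⟩ }
    haveI : Ω.Normal := ⟨fun a ha g => ⟨Normal.conj_mem inferInstance a ha.1 g, by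
      rw [conj_mul, ha.2, mul_one, mul_inv_cancel]⟩⟩
    obtain ⟨v, hv, h1, h2⟩ := hA
    obtain ⟨e, he, h3, h4⟩ := Grp.PChain.exists_central_mod Ω (zpowers z) fun h => h2 (h ⟨hv, h1⟩)
    exact ⟨e, he.1.1, he.2, h3, h4⟩
  push Not at hA
  obtain ⟨u, hu, h1, h2⟩ := Grp.PChain.exists_central_mod (commutator D) Z fun h => hna (h.trans inf_le_right)
  set B := Z ⊔ zpowers u
  have hBE : B ≤ commutator D := sup_le inf_le_left (zpowers_le.2 hu)
  have h3 : ∀ g, ∀ b ∈ B, ⁅b, g⁆ ∈ Z := fun g b hb => by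
    have : B ≤ (centralizer {QuotientGroup.mk' Z g}).comap (QuotientGroup.mk' Z) :=
      sup_le (fun x hx => mem_centralizer_singleton_iff.2 (by
        rw [(QuotientGroup.eq_one_iff (N := Z) x).2 hx |>.trans rfl |> (id : QuotientGroup.mk' Z x = 1 → _),
          mul_one, one_mul])) (zpowers_le.2 (mem_centralizer_singleton_iff.2
        (commutatorElement_eq_one_iff_mul_comm.1 ((map_commutatorElement _ _ _).symm.trans
        ((QuotientGroup.eq_one_iff _).2 (h2 g))))))
    exact (QuotientGroup.eq_one_iff _).1 ((map_commutatorElement (QuotientGroup.mk' Z) b g).trans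
      (commutatorElement_eq_one_iff_mul_comm.2 (mem_centralizer_singleton_iff.1 (this hb))))
  haveI : B.Normal := ⟨fun b hb g => by
    simpa [commutatorElement_def, mul_assoc] using
      mul_mem (inv_mem (mem_sup_left (T := zpowers u) (h3 g b hb))) hb⟩
  have h4 : B ≤ centralizer (B : Set D) := sup_le (inf_le_right.trans (centralizer_le hBE))
    (le_centralizer_iff.2 (sup_le (inf_le_right.trans (centralizer_le (zpowers_le.2 hu)))
      (zpowers u).le_centralizer))
  haveI : IsMulCommutative B := le_centralizer_iff_isMulCommutative.1 h4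
  obtain ⟨e, he, h5, h6⟩ : ∃ e ∈ B, e * e = 1 ∧ e ∉ zpowers z := by
    by_contra hc
    push Not at hc
    haveI : IsCyclic B := Grp.isCyclic_of_prime_order_mem_zpowers fun x y hx hy => by
      obtain ⟨k, hk⟩ := IsPGroup.iff_orderOf.1 (hD.to_subgroup B) x
      have e : orderOf x = 2 := by rw [hk] at hx ⊢; rw [hx.eq_one_of_pow, pow_one]
      have key : ∀ x : B, orderOf x = 2 → (x : D) = z := fun x hx => (mem_zp hz (hc x x.2
        (congrArg Subtype.val ((pow_two x).symm.trans (hx ▸ pow_orderOf_eq_one x))))).resolve_left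
        fun h => by rw [show x = 1 from Subtype.ext h, orderOf_one] at hx; omega
      rw [Subtype.ext ((key y (hy.trans e)).trans (key x e).symm)]
      exact mem_zpowers x
    exact h1 ⟨hu, le_centralizer_iff.1 (commutator_le_centralizer B) (mem_sup_right (mem_zpowers u))⟩
  refine ⟨e, hBE he, h5, h6, fun g => hA _ (h3 g e he) ?_⟩
  have h7 := h4 he _ (Normal.conj_mem inferInstance _ (inv_mem he) g)
  rw [commutatorElement_def, mul_assoc e, mul_assoc e, mul_assoc, ← mul_assoc _ e, h7, mul_assoc,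
    conj_mul, ← mul_inv_rev, h5, ← mul_assoc, h5]
  simp

theorem commutator_le_cent {D : Type*} [Group D] {z e : D} (hz : z ∈ center D)
    (h : ∀ g, ⁅e, g⁆ ∈ zpowers z) : commutator D ≤ centralizer {e} := by
  have h1 : ∀ g, ⁅e, g⁆ ∈ center D := fun g => zpowers_le.2 hz (h g)
  let χ : D →* D := MonoidHom.mk' (fun g => ⁅e, g⁆) fun a b => by
    have := mem_center_iff.1 (h1 b) a
    rw [← mul_left_inj a, mul_assoc ⁅e, a⁆, ← this]
    simp only [commutatorElement_def]
    group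
  refine commutator_le.2 fun a _ b _ => mem_centralizer_singleton_iff.2
    (commutatorElement_eq_one_iff_mul_comm.1 ((map_commutatorElement χ a b).trans ?_)).symm
  exact commutatorElement_eq_one_iff_mul_comm.2 (mem_center_iff.1 (h1 b) _)

variable {Γ : Type*} [Group Γ] [Finite Γ]

theorem lemZ' {D : Subgroup Γ} (hD : IsPGroup 2 D) {z : Γ} (hzD : z ∈ D) (hz : z * z = 1)
    (hc : ∀ d ∈ D, d * z = z * d) (hna : ⁅⁅D, D⁆, ⁅D, D⁆⁆ ≠ ⊥) :
    ∃ e ∈ ⁅D, D⁆, e * e = 1 ∧ e ≠ 1 ∧ e ≠ z ∧ (∀ d ∈ D, d * e * d⁻¹ = e ∨ d * e * d⁻¹ = e * z) ∧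
      ∀ d ∈ ⁅D, D⁆, d * e = e * d := by
  obtain ⟨e, he, h1, h2, h3⟩ := lemZ hD (z := ⟨z, hzD⟩) (Subtype.ext hz) fun h => hna (by
    rw [← map_subtype_commutator D, ← map_commutator, commutator_eq_bot_iff_le_centralizer.2 h,
      Subgroup.map_bot])
  have h1' : (e : Γ) * e = 1 := congrArg Subtype.val h1
  refine ⟨e, map_subtype_commutator D ▸ mem_map_of_mem _ he, h1',
    fun h => h2 (by rw [show e = 1 from Subtype.ext h]; exact one_mem _),
    fun h => h2 (by rw [show e = ⟨z, hzD⟩ from Subtype.ext h]; exact mem_zpowers _), fun d hd => ?_, ?_⟩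
  · have e1 : (e : Γ) * (d * e * d⁻¹) = (⁅e, (⟨d, hd⟩ : D)⁆ : D) := by
      change _ = (e : Γ) * d * (e : Γ)⁻¹ * d⁻¹
      rw [inv_eq_of_mul_eq_one_right h1', mul_assoc (e : Γ), mul_assoc (e : Γ)]
    refine (mem_zp (Subtype.ext hz) (h3 ⟨d, hd⟩)).imp (fun h => ?_) fun h => ?_ <;> rw [h] at e1
    · exact (inv_eq_of_mul_eq_one_right e1).symm.trans (inv_eq_of_mul_eq_one_right h1')
    · rw [eq_inv_mul_of_mul_eq e1, inv_eq_of_mul_eq_one_right h1']
  · rw [← map_subtype_commutator]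
    rintro _ ⟨d, hd, rfl⟩
    exact congrArg Subtype.val (mem_centralizer_singleton_iff.1 (commutator_le_cent (mem_center_iff.2
      fun g => Subtype.ext (hc g g.2)) h3 hd))

theorem le_sup_of_relIndex {G E C : Subgroup Γ} (hG : IsPGroup 2 G) (hE : E ≤ G)
    (hC : G ≤ normalizer (C : Set Γ)) (h8 : C.relIndex G ≤ 8) (hna : ¬ ⁅E, E⁆ ≤ C) : G ≤ E ⊔ G ⊓ C := by
  haveI : (C.subgroupOf G).Normal := ⟨fun a ha g => conj_mem (Q := C) (hC g.2) ha⟩
  let π := QuotientGroup.mk' (C.subgroupOf G)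
  have hp := im_isPGroup π (hG.to_le hE)
  have h1 : ¬ Nat.card (im π E) ≤ 2 ^ 2 := fun h => hna fun a ha => by
    haveI := FT.R2.isMulCommutative_of_card_le_sq hp h
    have := mem_im π (x := ⟨a, hE (commutator_le_self E ha)⟩) ha
    rw [im_commutator π hE hE, commutator_eq_bot_iff_le_centralizer.2 (im π E).le_centralizer] at this
    exact (QuotientGroup.eq_one_iff (N := C.subgroupOf G) _).1 (mem_bot.1 this)
  have h2 : im π E = ⊤ := eq_top_of_le_card _ (h8.trans (by
    obtain ⟨k, hk⟩ := hp.exists_card_eq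
    rw [hk] at h1 ⊢
    exact Nat.pow_le_pow_right two_pos (show 3 ≤ k from by
      by_contra h; exact h1 (Nat.pow_le_pow_right two_pos (by omega)))))
  intro g hg
  obtain ⟨a, ha, e⟩ := h2.ge (mem_top (π ⟨g, hg⟩))
  have := QuotientGroup.eq.1 e
  simpa using mul_mem (mem_sup_left (T := G ⊓ C) ha) 
    (mem_sup_right (S := E) (T := G ⊓ C) ⟨G.mul_mem (G.inv_mem a.2) hg, this⟩)

end Cfsg.Agent.Bry
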