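import Cfsg.Agent.Bry.Setup
import Cfsg.Agent.SolvLin.DL0

/-!
# The two-step reduction with a projection property; faithful critical configurations
-/

set_option autoImplicit false
set_option linter.style.haveILetI false

namespace Cfsg.Agent.Bry

open Module Subgroup Cfsg.Agent.PLocal Cfsg.Agent.PLocal.HH Cfsg.Agent.FT.Rep Cfsg.Agent.SolvLin
open scoped commutatorElement IsMulCommutative

universe u v

variable {F : Type*} [Field F] {W : Type v} [AddCommGroup W] [Module F W]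
  {Γ : Type u} [Group Γ] (ρ : Γ →* End F W)

/-- The translates of `Y` by the elements of `X` outside `B` are independent of `Y`. -/
def Pj (X B : Subgroup Γ) (Y : Submodule F W) : Prop :=
  ∃ U : Submodule F W, Disjoint Y U ∧ ∀ x ∈ X, x ∉ B → ∀ w ∈ Y, ρ x w ∈ U

theorem pj_wt {X A : Subgroup Γ} (hX : X ≤ normalizer (A : Set Γ)) (μ : Wt Γ F) :
    Pj ρ X (X ⊓ MulAction.stabilizer Γ μ) (wt ρ A μ) :=
  ⟨_, wt_indep' ρ A μ, fun x hx hB _ hw => Submodule.mem_iSup_of_mem (x • μ)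
    (Submodule.mem_iSup_of_mem (fun h => hB ⟨hx, h⟩) (apply_mem_wt ρ (hX hx) hw))⟩

theorem Pj.trans {ρ : Γ →* End F W} {X B C : Subgroup Γ} {Y Y' : Submodule F W} (h1 : Pj ρ X B Y)
    (h2 : Pj ρ B C Y') (hY : Y' ≤ Y) (hB : ∀ g ∈ B, ∀ w ∈ Y, ρ g w ∈ Y) : Pj ρ X C Y' := by
  obtain ⟨U₁, d1, m1⟩ := h1
  obtain ⟨U₂, d2, m2⟩ := h2
  refine ⟨U₁ ⊔ (U₂ ⊓ Y), Submodule.disjoint_def.2 fun w hw h => ?_, fun x hx hC w hw => ?_⟩
  · obtain ⟨a, ha, b, hb, rfl⟩ := Submodule.mem_sup.1 h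
    have := Submodule.disjoint_def.1 d1 a ((Y.add_mem_iff_left hb.2).1 (hY hw)) ha
    rw [this, zero_add] at hw ⊢
    exact Submodule.disjoint_def.1 d2 b hw hb.1
  · by_cases h : x ∈ B
    · exact Submodule.mem_sup_right ⟨m2 x h hC w hw, hB x h w (hY hw)⟩
    · exact Submodule.mem_sup_left (m1 x hx h w (hY hw))

theorem two_step' [FiniteDimensional F W] [IsAlgClosed F] [Finite Γ] (hρ : Function.Injective ρ)
    {p q : ℕ} [hp : Fact p.Prime] [hq : Fact q.Prime] [CharP F p] (hpq : p ≠ q) {X D Q : Subgroup Γ}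
    (hQ : IsPGroup q Q) (hXQ : X ≤ normalizer (Q : Set Γ)) (hDX : D ≤ X)
    (hXD : X ≤ normalizer (D : Set Γ)) (hD : (Nat.card D).Coprime q) (hnt : ⁅Q, D⁆ ≠ ⊥) :
    ∃ (B Q₀ Z : Subgroup Γ) (Y : Submodule F W), B ≤ X ∧ Q₀ ≤ Q ∧ X ≤ normalizer (Q₀ : Set Γ) ∧
      ⁅Q₀, D⁆ = Q₀ ∧ Red ρ q B Q₀ Z Y ∧ Lift ρ p X B Y ∧ Pj ρ X B Y ∧ (D ≤ B → ¬ Q₀ ≤ Z) := by
  obtain ⟨Q₀, hQ₀, hX₀, hnt₀, hmin⟩ := exists_minimal_not_centralized hXQ hnt
  have hq₀ := hQ.to_le hQ₀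
  obtain ⟨h1, hst, -, -⟩ := S3736.result X D Q₀ hq₀ hX₀ hDX hXD hD hnt₀ hmin
  set Z₀ := Q₀ ⊓ centralizer (Q₀ : Set Γ) with hZ₀
  have hcomm : ⁅Q₀, Q₀⁆ ≤ Z₀ := commutator_le.mpr fun a ha b hb =>
    ⟨Q₀.mul_mem (Q₀.mul_mem (Q₀.mul_mem ha hb) (Q₀.inv_mem ha)) (Q₀.inv_mem hb), fun c hc =>
      congrArg Subtype.val (commute_commutator_of_isEA_or_isSpecial hst ⟨a, ha⟩ ⟨b, hb⟩ ⟨c, hc⟩).symm.eq⟩
  have hpow : ∀ t ∈ Q₀, t ^ q ∈ Z₀ := fun t ht => by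
    rcases hst with h | h
    · rw [h.2 t ht]; exact one_mem _
    · have h2 : (⟨t, ht⟩ : Q₀) ^ q ∈ center Q₀ := h.2.1 ▸ Grp.PFrattini.pow_mem_frattini hq₀ _
      exact ⟨Q₀.pow_mem ht _, fun g hg => congrArg Subtype.val (mem_center_iff.mp h2 ⟨g, hg⟩)⟩
  have hQF : (Nat.card Q₀ : F) ≠ 0 := natCast_card_ne_zero hpq hq₀
  have hZ0 : Z₀ ≠ ⊥ := by
    have : Nontrivial Q₀ := (nontrivial_iff_ne_bot Q₀).mpr fun h => hnt₀ (by rw [h, commutator_bot_left])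
    have := hq₀.center_nontrivial
    obtain ⟨z, hz⟩ := exists_ne (1 : center Q₀)
    exact fun h => hz (Subtype.ext (Subtype.ext (mem_bot.mp (h.le ⟨z.1.2, fun g hg =>
      congrArg Subtype.val (mem_center_iff.mp z.2 ⟨g, hg⟩)⟩))))
  have hZc : ∀ a ∈ Z₀, ∀ b ∈ Z₀, Commute (ρ a) (ρ b) := fun a ha b hb =>
    (show Commute a b from hb.2 a ha.1).map ρ
  obtain ⟨μ, hμ⟩ : ∃ μ, ¬ wt ρ Z₀ μ ≤ fix ρ Z₀ := by
    by_contra h
    push Not at h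
    refine hZ0 ((eq_bot_iff_forall _).mpr fun g hg => hρ ?_)
    rw [map_one]
    refine fix_eq_top_iff.mp (top_le_iff.mp ?_) g hg
    rw [← wt_span ρ Z₀ hZc (natCast_ne_zero_of_dvd (card_dvd_of_le inf_le_left) hQF)]
    exact iSup_le h
  have hμ0 : wt ρ Z₀ μ ≠ ⊥ := fun h => hμ (h ▸ bot_le)
  have hμQ : ∀ g ∈ Q₀, ∀ w ∈ wt ρ Z₀ μ, ρ g w ∈ wt ρ Z₀ μ := fun g hg w hw =>
    ⟨fun a ha => by rw [← apply_mul, ← ha.2 g hg, apply_mul, hw.1 a ha, map_smul],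
      fun a ha => by rw [← map_smul, hw.2 a ha, map_zero]⟩
  have hXZ₀ : X ≤ normalizer (Z₀ : Set Γ) :=
    Solv.le_normalizer_inf hX₀ (Solv.le_normalizer_centralizer hX₀)
  set X₁ := X ⊓ MulAction.stabilizer Γ μ with hX₁
  have hμX : ∀ g ∈ X₁, ∀ w ∈ wt ρ Z₀ μ, ρ g w ∈ wt ρ Z₀ μ := fun g hg w hw => by
    have := apply_mem_wt ρ (hXZ₀ hg.1) hw
    rwa [hg.2] at this
  set Z := centMod ρ Q₀ _ hμQ with hZ
  have hZ₀Z : Z₀ ≤ Z := fun z hz => ⟨hz.1, fun g hg w _ => by rw [hz.2 g hg]⟩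
  have hXZ : X₁ ≤ normalizer (Z : Set Γ) := fun x hx => mem_normalizer_fintype fun t ht =>
    ⟨(mem_normalizer_iff.mp (hX₀ hx.1) t).mp ht.1, fun g hg w hw => by
      have := congrArg (ρ x) (ht.2 _ ((mem_normalizer_iff''.mp (hX₀ hx.1) g).mp hg) _
        (hμX _ (inv_mem hx) w hw))
      simp only [← apply_mul] at this
      rw [show g * (x * t * x⁻¹) = x * (x⁻¹ * g * x * t * x⁻¹) by group, this]
      congr 2
      group⟩
  obtain ⟨ν, w₀, hw₀, hw₀0, hw₀ν⟩ := exists_wt_inf_ne_bot ρ (A := Z) (fun g hg => hμQ g hg.1) hμ0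
    (fun a ha b hb => hb.2 a ha.1) (natCast_ne_zero_of_dvd (card_dvd_of_le fun _ h => h.1) hQF)
  have hνμ : ∀ z ∈ Z₀, ν z = μ z := fun z hz =>
    smul_left_injective F hw₀0 ((hw₀ν.1 z (hZ₀Z hz)).symm.trans (hw₀.1 z hz))
  have hY : wt ρ Z ν ≤ wt ρ Z₀ μ := fun w hw =>
    ⟨fun a ha => by rw [hw.1 a (hZ₀Z ha), hνμ a ha], fun a ha => by rw [wt_not_mem hμ0 ha, zero_smul]⟩
  have hν0 : wt ρ Z ν ≠ ⊥ := (Submodule.ne_bot_iff _).mpr ⟨w₀, hw₀ν, hw₀0⟩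
  refine ⟨X₁ ⊓ MulAction.stabilizer Γ ν, Q₀, Z, wt ρ Z ν, inf_le_left.trans inf_le_left, hQ₀, hX₀, h1,
    { ne_bot := hν0
      qQ := hq₀
      le := fun _ h => h.1
      nQ := (inf_le_left.trans inf_le_left).trans hX₀
      nZ := inf_le_left.trans hXZ
      comm := hcomm.trans hZ₀Z
      pow := fun t ht => hZ₀Z (hpow t ht)
      invQ := fun g hg w hw => ⟨fun a ha => by
          rw [← apply_mul, ← ha.2 g hg w (hY hw), apply_mul, hw.1 a ha, map_smul],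
        fun a ha => by rw [← map_smul, hw.2 a ha, map_zero]⟩
      invB := fun g hg w hw => by
        have := apply_mem_wt ρ (hXZ hg.1) hw
        rwa [hg.2] at this
      scal := fun z hz => ⟨ν z, fun w hw => hw.1 z hz⟩
      nondeg := fun t ht h => ⟨ht, fun g hg w hw => ?_⟩ },
    (lift_wt ρ p hXZ₀ μ).trans (lift_wt ρ p hXZ ν) hY,
    (pj_wt ρ hXZ₀ μ).trans (pj_wt ρ hXZ ν) hY hμX, fun hDB hle => hμ fun w hw z hz => ?_⟩
  · have hc : ⁅g, t⁆ ∈ Z₀ := hcomm (commutator_mem_commutator hg ht)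
    have e : g * t = ⁅g, t⁆ * (t * g) := by rw [commutatorElement_def]; group
    have h2 : μ ⁅g, t⁆ = 1 := by
      have h3 := h g hg w₀ hw₀ν
      rw [e, apply_mul, (hμQ _ (Q₀.mul_mem ht hg) w₀ hw₀).1 _ hc] at h3
      exact smul_left_injective F (apply_ne_zero ρ (t * g) hw₀0) (h3.trans (one_smul F _).symm)
    rw [e, apply_mul, (hμQ _ (Q₀.mul_mem ht hg) w hw).1 _ hc, h2, one_smul]
  · have h2 := wt_eq_one_of_fixed hν0 ((hDB.trans inf_le_left).trans hXZ) (hDB.trans inf_le_right) z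
      (commutator_mono hle le_rfl (h1.ge hz.1))
    rw [hw.1 z hz, ← hνμ z hz, h2, one_smul]

end Cfsg.Agent.Bry
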