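import Cfsg.Agent.Bry.Fa2

/-!
# The main lemma for the derived length bound: levels zero and one
-/

set_option autoImplicit false
set_option linter.style.haveILetI false

namespace Cfsg.Agent.Bry

open Module Subgroup Cfsg.Agent.PLocal Cfsg.Agent.PLocal.HH Cfsg.Agent.FT.Rep Cfsg.Agent.SolvLin
open scoped commutatorElement

universe u v

theorem exists_pow_step {G : Type*} [Group G] {A : Subgroup G} {d : G} (hd : ∃ k, d ^ 2 ^ k = 1)
    (h : d ∉ A) : ∃ k, d ^ 2 ^ k ∉ A ∧ d ^ 2 ^ k * d ^ 2 ^ k ∈ A := by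
  obtain ⟨k, hk⟩ := hd
  by_contra hc
  push Not at hc
  have : ∀ j, d ^ 2 ^ j ∉ A := fun j => by
    induction j with
    | zero => simpa using h
    | succ j ih => rw [pow_succ, pow_mul, pow_two]; exact hc j ih
  exact this k (hk ▸ one_mem A)

variable {F : Type*} [Field F] {W : Type v} [AddCommGroup W] [Module F W] {Γ : Type u} [Group Γ]
  {ρ : Γ →* End F W} {q : ℕ} {Q P D : Subgroup Γ}

theorem Cf.x0 {Y : Submodule F W} (h : Cf ρ q Q P D Y 0) : Concl Q P D 0 :=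
  Or.inl fun d hd => h.fa.l0 h.ne h.invQ (h.nQ (h.le hd)) fun _ hw =>
    sub_eq_zero.1 (mem_kv_zero.1 (mem_kv.1 (h.van hw) d hd))

theorem sq_sub_one [CharP F 2] (x : Γ) : (ρ x - 1) ^ 2 = ρ (x * x) - 1 := by
  have := sub_one_pow_char_pow (F := F) 2 (ρ x) 1
  rwa [pow_one, pow_two (ρ x), ← map_mul] at this

theorem Cf.x1 [CharP F 2] [IsAlgClosed F] [FiniteDimensional F W] [Finite Γ] (h : Cf ρ q Q P D ⊤ 1)
    (hN : ∀ p ∈ P, p ∈ centralizer (Q : Set Γ) → p = 1) : Concl Q P D 1 := by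
  haveI := h.fa.nt
  haveI := Fact.mk h.fa.pr
  have hv : ∀ d ∈ D, ∀ a ∈ ⁅D, D⁆, (ρ a - 1) * (ρ d - 1) = 0 := fun d hd a ha =>
    LinearMap.ext fun w => mem_kv_zero.1 (mem_kv.1 (mem_kv.1 (h.van Submodule.mem_top) d hd) a ha)
  by_cases h0 : ⁅D, D⁆ = ⊥
  · exact Or.inl (h0.le.trans bot_le)
  obtain ⟨z, hz, hz1⟩ := (⁅D, D⁆.bot_or_exists_ne_one).resolve_left h0
  have hD' := commutator_le_self D
  have hDQ := h.le.trans h.nQ
  have h2 : ∀ p ∈ P, ∃ k, p ^ 2 ^ k = 1 := isPGroup_subgroup_iff.1 h.two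
  have hsq : ∀ a ∈ ⁅D, D⁆, a * a = 1 := fun a ha => h.fa.inj (by
    rw [map_one, ← sub_eq_zero, ← sq_sub_one, pow_two, hv a (hD' ha) a ha])
  have hzP := h.le (hD' hz)
  have huniq : ∀ f ∈ D, f * f = 1 → f ≠ 1 → Commute f z → f = z := fun f hf hf2 hf1 hc => by
    have key : ∀ f ∈ D, f ≠ 1 → Commute f z → z ∈ centralizer (cen Q f : Set Γ) := fun f hf hf1 hc =>
      (h.fa.fa_cen (hDQ hf) (h2 f (h.le hf))).l1 (h.fa.sub_one_ne hf1) (fun g hg => by
        simpa using Fa.comm_pow (ρ := ρ) (Q := cen Q f) (x := f) (fun g hg => hg.2 f rfl ▸ rfl) 1 g hg)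
        (norm_cen (h.nQ hzP) hc.symm) (hv f hf z hz)
    by_contra hne
    exact hz1 (hN z hzP (h.fa.four (hDQ hf) (h.nQ hzP) hf2 (hsq z hz) hc (key f hf hf1 hc)
      (key _ (mul_mem hf (hD' hz)) (fun e => hne ((eq_inv_of_mul_eq_one_left e).trans
      (inv_eq_of_mul_eq_one_right (hsq z hz)))) (hc.mul_left (Commute.refl z)))))
  have h3 : ∀ a ∈ ⁅D, D⁆, a ≠ 1 → a = z := fun a ha h1 => huniq a (hD' ha) (hsq a ha) h1 (by
    have := inv_eq_of_mul_eq_one_right (hsq _ (mul_mem ha hz))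
    rw [mul_inv_rev, inv_eq_of_mul_eq_one_right (hsq a ha), inv_eq_of_mul_eq_one_right (hsq z hz)] at this
    exact this.symm)
  have hc : ∀ p ∈ P, Commute p z := fun p hp => mul_inv_eq_iff_eq_mul.1 (h3 _
    (conj_mem (Solv.le_normalizer_commutator h.nD h.nD hp) hz) (by simpa using hz1))
  have h4 : D ≤ centralizer (cen Q z : Set Γ) := fun d hd =>
    (h.fa.fa_cen (h.nQ hzP) (h2 z hzP)).l1 (h.fa.sub_one_ne hz1) (fun g hg => by
      simpa using Fa.comm_pow (ρ := ρ) (Q := cen Q z) (x := z) (fun g hg => hg.2 z rfl ▸ rfl) 1 g hg)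
      (norm_cen (hDQ hd) (hc d (h.le hd))) (by
      rw [← hv d hd z hz]
      exact ((((hc d (h.le hd)).map ρ).sub_right (Commute.one_right _)).sub_left (Commute.one_left _)).eq)
  obtain ⟨x, hx, hxz⟩ : ∃ x ∈ D, x * x = z := by
    obtain ⟨d, hd, h5⟩ : ∃ d ∈ D, d ∉ zpowers z := SetLike.not_le_iff_exists.1 fun e =>
      h0 (commutator_eq_bot_iff_le_centralizer.2 (e.trans ((zpowers z).le_centralizer.trans
        (centralizer_le e))))
    obtain ⟨k, h6, h7⟩ := exists_pow_step (h2 d (h.le hd)) h5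
    refine ⟨_, pow_mem hd _, (mem_zp (hsq z hz) h7).resolve_left fun e => h6 ?_⟩
    rw [huniq _ (pow_mem hd _) e (fun e => h6 (e ▸ one_mem _)) (hc _ (h.le (pow_mem hd _)))]
    exact mem_zpowers z
  have h9 : (zc Q).relIndex (rc Q z) = 9 := by
    have := crit_card ρ h.fa.inj h.fa.ne h.fa.qQ inf_le_left (le_inf (commutator_le_self Q) h.fa.comm)
      h.fa.scal le_rfl (hDQ hx) (n := 1) (by
        rw [show 2 ^ (1 + 1) - 1 = 2 + 1 from rfl, pow_succ, sq_sub_one, hxz, hv x hx z hz])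
    rw [pow_one, pow_two x, hxz] at this
    refine this.resolve_left fun e => hz1 (hN z hzP (cent_of_conj fun g hg => h.fa.fixmod (h2 z hzP) ?_))
    simpa [commutatorElement_def, mul_assoc] using
      inv_mem (e (commutator_mem_commutator hg (mem_zpowers z)))
  refine Or.inr ⟨rfl, fun a ha => ?_, fun τ hτ h5 d hd => ?_, fun a ha h5 h6 => ?_⟩
  · rw [pow_two, hsq a ha]; exact one_mem _
  · have hτ2 : τ * τ = 1 := (pow_two τ).symm.trans (hN _ (pow_mem hτ 2) h5)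
    have hR := h.fa.fa_rc (h.nQ hzP) (h2 z hzP)
    have hτR := norm_rc (h.nQ hτ) (hc τ hτ)
    have h7 : ∀ τ' ∈ centralizer (rc Q z : Set Γ), ⁅τ', d⁆ ∈ centralizer (rc Q z : Set Γ) := fun τ' h7 => by
      simpa [commutatorElement_def, mul_assoc] using mul_mem h7 (conj_mem
        (Solv.le_normalizer_centralizer le_rfl (norm_rc (hDQ hd) (hc d (h.le hd)))) (inv_mem h7))
    refine h.fa.cent_of_both (h.nQ hzP) (h2 z hzP) ?_ (h4 (mul_mem (conj_mem (h.nD hτ) hd) (inv_mem hd)))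
    rcases hR.nine (h.fa.zc_rc (h.nQ hzP) (h2 z hzP) ▸ h9) hτR (h2 τ hτ) with e | e
    · have := h7 _ (hR.cent_mul (fun g hg => e (hR.mul_conj_mem hτR hτ2 hg)) (fun g hg => h.fa.cen_rc
        (h.nQ hzP) (hR.mul_conj_mem (norm_rc (h.nQ hzP) (Commute.refl z)) (hsq z hz) hg))
        (h2 _ (mul_mem hτ hzP)))
      rwa [commutatorElement_def, mul_assoc τ, ← (hc d (h.le hd)).eq, mul_inv_rev, ← mul_assoc,
        ← mul_assoc, mul_inv_cancel_right] at this
    · exact h7 τ e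
  · obtain rfl := h3 a ha fun e => h6 fun g hg => h5 (mem_cen.2 ⟨hg, by simp [e]⟩)
    rwa [le_antisymm (rc_le (h.nQ hzP)) ((h.fa.rc_sup_cen (h.nQ hzP) (h2 a hzP)).ge.trans
      (sup_le le_rfl (h5.trans le_sup_right)))] at h9

end Cfsg.Agent.Bry
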