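import Cfsg.Agent.Bry.X1

/-!
# The main lemma for the derived length bound: higher levels
-/

set_option autoImplicit false
set_option linter.style.haveILetI false

namespace Cfsg.Agent.Bry

open Module Subgroup Cfsg.Agent.PLocal Cfsg.Agent.PLocal.HH Cfsg.Agent.FT.Rep Cfsg.Agent.SolvLin
open scoped commutatorElement

universe u v

theorem ring_key {R : Type*} [Ring R] {A C : R} (h : Commute A C) (hA : A ^ 3 = 0) (hC : C ^ 3 = 0)
    (h2 : ∀ x : R, x + x = 0) (hX : ((C + 1) * (A + 1) - 1) ^ 3 * C = 0) : A ^ 2 * C ^ 2 = 0 := by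
  have h3 : C * (C * C) = 0 := by simpa [pow_succ, mul_assoc] using hC
  have h4 : A * (A * A) = 0 := by simpa [pow_succ, mul_assoc] using hA
  have h5 : ∀ x, C * (C * (C * x)) = 0 := fun x => by rw [← mul_assoc C C x, ← mul_assoc, h3, zero_mul]
  rw [show (C + 1) * (A + 1) - 1 = C * A + C + A by noncomm_ring] at hX
  simp only [pow_succ, pow_zero, one_mul, mul_add, add_mul, mul_assoc, h.eq, h.left_comm, h3, h4, h5,
    mul_zero, add_zero, zero_add] at hX ⊢
  rwa [h2, add_zero] at hX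

variable {F : Type*} [Field F] [CharP F 2] {W : Type v} [AddCommGroup W] [Module F W] {Γ : Type u}
  [Group Γ] [Finite Γ] {ρ : Γ →* End F W} {q : ℕ} {Q P D : Subgroup Γ}

theorem Cf.x2 {k : ℕ} (h : Cf ρ q Q P D ⊤ (k + 2))
    (ih : ∀ {Q P D : Subgroup Γ} {Y : Submodule F W}, Cf ρ q Q P D Y (k + 1) → Concl Q P D (k + 1))
    (hN : ∀ p ∈ P, p ∈ centralizer (Q : Set Γ) → p = 1) (hB : Bad Q P D (k + 2)) : False := by
  obtain ⟨z, hz, hzC, hz2, hzc, hzQ⟩ := hB
  set E := ⁅D, D⁆ with hE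
  have hED : E ≤ D := commutator_le_self D
  have hzE : z ∈ ⁅E, E⁆ := ds_anti D (show 2 ≤ k + 2 by omega) hz
  have hzD := ds_le D _ hz
  have hzP := h.le hzD
  have h2 : ∀ p ∈ P, ∃ k, p ^ 2 ^ k = 1 := isPGroup_subgroup_iff.1 h.two
  have hc : ∀ p ∈ P, Commute p z := fun p hp => commutatorElement_eq_one_iff_mul_comm.1
    (hN _ (commutator_le_self P (commutator_mem_commutator hp hzP)) (hzc p hp))
  replace hz2 : z * z = 1 := (pow_two z).symm.trans (hN _ (pow_mem hzP 2) hz2)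
  have hE0 : ⁅E, E⁆ ≠ ⊥ := fun e => hzC (by rw [mem_bot.1 (e.le hzE)]; exact one_mem _)
  have hzi : ∀ g ∈ Q, g * (z * g * z⁻¹) ∈ zc Q := fun g hg => hzQ (h.fa.mul_conj_mem (h.nQ hzP) hz2 hg)
  have hcen : ∀ x : Γ, x ∈ centralizer (cen Q x : Set Γ) := fun x g hg =>
    mem_centralizer_singleton_iff.1 hg.2
  have main : ∀ x ∈ E, x * x = 1 → x ≠ 1 → x ≠ z → (∀ d ∈ E, d * x = x * d) →
      z ∉ centralizer (cen Q x : Set Γ) ∧ k = 0 ∧ (zc (cen Q x)).relIndex (cen Q x) = 9 := by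
    intro x hx hx2 hx1 hxz hxE
    have hxP := h.le (hED hx)
    have e := h.fa.zc_cen (h.nQ hxP) (h2 x hxP)
    have h3 : ¬ cen Q x ≤ zc Q := fun e => hxz ((eq_inv_of_mul_eq_one_left (hN _ (mul_mem hxP hzP)
      (h.fa.cent_mul (fun g hg => e (h.fa.mul_conj_mem (h.nQ hxP) hx2 hg)) hzi
      (h2 _ (mul_mem hxP hzP))))).trans (inv_eq_of_mul_eq_one_right hz2))
    have h4 : z ∉ centralizer (cen Q x : Set Γ) := fun e => h3 fun g hg =>
      hzQ ⟨hg.1, mem_centralizer_singleton_iff.2 (e g hg)⟩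
    have h5 : ∀ g : Γ, g * x = x * g → ∀ w ∈ LinearMap.range (ρ x - 1),
        ρ g w ∈ LinearMap.range (ρ x - 1) := by
      rintro g hg _ ⟨w, rfl⟩
      exact ⟨ρ g w, by simp only [LinearMap.sub_apply, End.one_apply, map_sub, ← apply_mul, hg]⟩
    obtain ⟨h6, h7⟩ := (ih (Q := cen Q x) (P := cen D x) (D := E) ⟨h.fa.fa_cen (h.nQ hxP) (h2 x hxP),
      h.two.to_le (inf_le_left.trans h.le),
      fun g hg => norm_cen (h.nQ (h.le hg.1)) (mem_centralizer_singleton_iff.1 hg.2),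
      fun d hd => ⟨hED hd, mem_centralizer_singleton_iff.2 (hxE d hd)⟩,
      (inf_le_left.trans h.le).trans (Solv.le_normalizer_commutator h.nD h.nD),
      mt LinearMap.range_eq_bot.1 (h.fa.sub_one_ne hx1),
      fun g hg => h5 g (mem_centralizer_singleton_iff.1 hg.2),
      fun g hg => h5 g (mem_centralizer_singleton_iff.1 hg.2),
      by rintro _ ⟨w, rfl⟩; exact mem_kv.1 (h.van Submodule.mem_top) x (hED hx)⟩).resolve_left
      fun e => h4 (e (by rwa [show k + 2 = 1 + (k + 1) by omega, ← ds_add] at hz))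
    exact ⟨h4, by omega, h7.nine z hzE (fun g hg => e.ge (hzQ ⟨hg.1.1, hg.2⟩)) (e ▸ h3)⟩
  obtain ⟨e, he, he2, he1, hez, hcj, heE⟩ := lemZ' (h.two.to_le h.le) hzD hz2
    (fun d hd => hc d (h.le hd)) hE0
  have heP := h.le (hED he)
  have hfE : e * z ∈ E := mul_mem he (commutator_le_self E hzE)
  have hf2 : e * z * (e * z) = 1 := by rw [(hc e heP).symm.mul_mul_mul_comm, he2, hz2, one_mul]
  obtain ⟨h3, rfl, h9⟩ := main e he he2 he1 hez heE
  obtain ⟨h4, -, h9'⟩ := main _ hfE hf2 (fun e' => hez ((eq_inv_of_mul_eq_one_left e').trans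
    (inv_eq_of_mul_eq_one_right hz2))) (fun e' => he1 (mul_eq_right.1 e')) fun d hd => by
      rw [← mul_assoc, heE d hd, mul_assoc, (hc d (h.le (hED hd))).eq, mul_assoc]
  have F1 := h.fa.fa_cen (h.nQ heP) (h2 e heP)
  have F2 := h.fa.fa_cen (h.nQ (mul_mem heP hzP)) (h2 _ (mul_mem heP hzP))
  have n1 : cen D e ≤ normalizer (cen Q e : Set Γ) := fun g hg =>
    norm_cen (h.nQ (h.le hg.1)) (mem_centralizer_singleton_iff.1 hg.2)
  have n2 : cen D e ≤ normalizer (cen Q (e * z) : Set Γ) := fun g hg => norm_cen (h.nQ (h.le hg.1))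
    (Commute.mul_right (mem_centralizer_singleton_iff.1 hg.2) (hc g (h.le hg.1)))
  have hEG : E ≤ cen D e := fun d hd => ⟨hED hd, mem_centralizer_singleton_iff.2 (heE d hd)⟩
  have both : ∀ p ∈ P, p ∈ centralizer (cen Q e : Set Γ) → p ∈ centralizer (cen Q (e * z) : Set Γ) →
      p = 1 := fun p hp a b => by
    have hR := h.fa.fa_rc (h.nQ heP) (h2 e heP)
    have := hR.cent_mul (s := e) (t := z) (fun g hg => h.fa.cen_rc (h.nQ heP) (hR.mul_conj_mem
      (norm_rc (h.nQ heP) (Commute.refl e)) he2 hg)) (fun g hg => (h.fa.zc_rc (h.nQ heP) (h2 e heP)).ge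
      (hzi g (rc_le (h.nQ heP) hg))) (h2 _ (mul_mem heP hzP))
    exact hN p hp (h.fa.cent_of_both (h.nQ heP) (h2 e heP) (fun g hg =>
      b g ⟨rc_le (h.nQ heP) hg, mem_centralizer_singleton_iff.2 (this g hg)⟩) a)
  have hG := le_sup_of_relIndex (h.two.to_le (inf_le_left.trans h.le)) hEG
    (Solv.le_normalizer_centralizer n1) (F1.relIndex_le h9 (h.two.to_le (inf_le_left.trans h.le)) n1)
    fun e' => h3 (e' hzE)
  obtain ⟨σ, hσ, hσe⟩ : ∃ σ ∈ D, σ * e * σ⁻¹ = e * z := by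
    by_contra hne
    push Not at hne
    exact h3 (le_of_le_sup_commutator (h.two.to_le h.le) (le_trans (fun d hd => hG ⟨hd,
      mem_centralizer_singleton_iff.2 (mul_inv_eq_iff_eq_mul.1 ((hcj d hd).resolve_right (hne d hd)))⟩)
      (sup_le_sup_left (inf_le_inf_right _ inf_le_left) _)) hzD)
  obtain ⟨c₀, hc₀, h5⟩ : ∃ c ∈ cen D e ⊓ centralizer (cen Q e : Set Γ), c ∉ zpowers e :=
    SetLike.not_le_iff_exists.1 fun e' => by
      have h5 : cen D e ≤ E := hG.trans (sup_le le_rfl (e'.trans (zpowers_le.2 he)))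
      have h6 : D ≤ zpowers σ := le_of_le_sup_commutator (h.two.to_le h.le) fun d hd =>
        (hcj d hd).elim (fun a => mem_sup_left (h5 ⟨hd, mem_centralizer_singleton_iff.2
          (mul_inv_eq_iff_eq_mul.1 a)⟩)) fun a => by
          simpa using mul_mem (mem_sup_right (S := E) (T := D ⊓ zpowers σ) ⟨hσ, mem_zpowers σ⟩)
            (mem_sup_left (h5 (x := σ⁻¹ * d) ⟨D.mul_mem (D.inv_mem hσ) hd,
            mem_centralizer_singleton_iff.2 (by
              rw [← mul_inv_eq_iff_eq_mul, show σ⁻¹ * d * e * (σ⁻¹ * d)⁻¹ = σ⁻¹ * (d * e * d⁻¹) * σ by group,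
                a, ← hσe]
              group)⟩))
      exact hE0 (le_bot_iff.1 ((commutator_mono (hED.trans h6) (hED.trans h6)).trans
        (commutator_eq_bot_iff_le_centralizer.2 (zpowers σ).le_centralizer).le))
  obtain ⟨j, h6, h7⟩ := exists_pow_step (h2 c₀ (h.le hc₀.1.1)) h5
  obtain ⟨c, hcc, h6, h7⟩ : ∃ c ∈ cen D e ⊓ centralizer (cen Q e : Set Γ), c ∉ zpowers e ∧
    c * c ∈ zpowers e := ⟨_, pow_mem hc₀ _, h6, h7⟩
  have hcP := h.le hcc.1.1
  have hce : c * c = e := (mem_zp he2 h7).resolve_left fun a => h6 (by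
    rcases F2.nine h9' (n2 hcc.1) (h2 c hcP) with b | b
    · have := both _ (mul_mem hcP heP) (mul_mem hcc.2 (hcen e)) (F2.cent_mul
        (fun g hg => b (F2.mul_conj_mem (n2 hcc.1) a hg)) (fun g hg => ?_) (h2 _ (mul_mem hcP heP)))
      · rw [eq_inv_of_mul_eq_one_left this]
        exact inv_mem (mem_zpowers e)
      have b' := F2.mul_conj_mem (n2 (hEG he)) he2 hg
      refine (h.fa.zc_cen (h.nQ (mul_mem heP hzP)) (h2 _ (mul_mem heP hzP))).ge
        (hzQ ⟨b'.1.1, mem_centralizer_singleton_iff.2 ?_⟩)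
      have := mul_mem (inv_mem (mem_centralizer_singleton_iff.2
        (mem_centralizer_singleton_iff.1 b'.2).symm)) (mem_centralizer_singleton_iff.2
        (mem_centralizer_singleton_iff.1 b'.1.2).symm)
      rw [inv_mul_cancel_left] at this
      exact (mem_centralizer_singleton_iff.1 this).symm
    · rw [both c hcP hcc.2 b]
      exact one_mem _)
  set a := σ * c⁻¹ * σ⁻¹ with ha
  have haD : a ∈ D := mul_mem (mul_mem hσ (inv_mem hcc.1.1)) (inv_mem hσ)
  have haa : a * a = e * z := by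
    rw [ha, conj_mul, ← mul_inv_rev, hce, inv_eq_of_mul_eq_one_right he2, hσe]
  have haC : a ∈ centralizer (cen Q (e * z) : Set Γ) := cent_of_conj fun t ht => by
    have := conj_eq_of_cent (inv_mem hcc.2) (t := σ⁻¹ * t * σ⁻¹⁻¹) (mem_cen.2
      ⟨conj_mem (h.nQ (h.le (inv_mem hσ))) ht.1, by
      conv_rhs => rw [← (mem_cen.1 ht).2, ← hσe]
      group⟩)
    rw [← mul_right_inj σ⁻¹, ← mul_left_inj σ⁻¹⁻¹, ← this, ha]
    group
  have haG : a ∈ cen D e := ⟨haD, mem_centralizer_singleton_iff.2 (by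
    have := (haa ▸ (Commute.refl a).mul_right (Commute.refl a)).mul_right (hc a (h.le haD)).inv_right
    rw [mul_inv_cancel_right] at this
    exact this.eq)⟩
  have hca : Commute c a := commutatorElement_eq_one_iff_mul_comm.1 (both _
    (commutator_le_self P (commutator_mem_commutator hcP (h.le haD))) (by
      simpa [commutatorElement_def, mul_assoc] using mul_mem hcc.2
        (conj_mem (Solv.le_normalizer_centralizer n1 haG) (inv_mem hcc.2)))
    (mul_mem (conj_mem (Solv.le_normalizer_centralizer n2 hcc.1) haC) (inv_mem haC)))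
  have hdE : c * a ∈ E := by
    simpa [ha, commutatorElement_def, mul_assoc] using commutator_mem_commutator hcc.1.1 hσ
  have hv : ∀ s₀ ∈ D, ∀ s₁ ∈ E, (ρ z - 1) * ((ρ s₁ - 1) * (ρ s₀ - 1)) = 0 := fun s₀ h0 s₁ h1 =>
    LinearMap.ext fun w => mem_kv_zero.1 (mem_kv.1 (mem_kv.1 (mem_kv.1 (h.van Submodule.mem_top) s₀ h0)
      s₁ h1) z hzE)
  have hC : (ρ c - 1) ^ 3 = 0 := by_contra fun b => h3 (F1.l1 b (Fa.comm_pow hcc.2 3)
    (n1 (hEG (commutator_le_self E hzE))) (by rw [pow_succ, sq_sub_one, hce, hv c hcc.1.1 e he]))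
  have hA : (ρ a - 1) ^ 3 = 0 := by_contra fun b => h4 (F2.l1 b (Fa.comm_pow haC 3)
    (n2 (hEG (commutator_le_self E hzE))) (by rw [pow_succ, sq_sub_one, haa, hv a haD _ hfE]))
  have key := ring_key (((hca.symm.map ρ).sub_right (Commute.one_right _)).sub_left (Commute.one_left _))
    hA hC (fun x => by rw [← two_smul F x, show (2 : F) = 0 from CharP.cast_eq_zero F 2, zero_smul]) (by
      rw [sub_add_cancel, sub_add_cancel, ← map_mul, pow_succ, sq_sub_one, hca.symm.mul_mul_mul_comm, hce,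
        haa, ← mul_assoc e, he2, one_mul, mul_assoc, hv c hcc.1.1 _ hdE])
  rw [sq_sub_one, sq_sub_one, haa, hce] at key
  have := mul_mem (inv_mem (hcen e)) (F1.l1 (h.fa.sub_one_ne he1)
    (fun g hg => by simpa using Fa.comm_pow (ρ := ρ) (hcen e) 1 g hg) (n1 (hEG hfE)) key)
  exact h3 (by rwa [inv_mul_cancel_left] at this)

omit [Finite Γ] in
theorem norm_ds {P D : Subgroup Γ} (h : P ≤ normalizer (D : Set Γ)) :
    ∀ n, P ≤ normalizer (ds D n : Set Γ)
  | 0 => h
  | n + 1 => Solv.le_normalizer_commutator (norm_ds h n) (norm_ds h n)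

theorem concl [IsAlgClosed F] (m : ℕ) : ∀ {W : Type v} [AddCommGroup W] [Module F W]
    [FiniteDimensional F W] {Γ : Type u} [Group Γ] [Finite Γ] {ρ : Γ →* End F W} {Q P D : Subgroup Γ}
    {Y : Submodule F W}, Cf ρ q Q P D Y m → Concl Q P D m := by
  induction m with
  | zero => exact fun h => h.x0
  | succ m ih =>
  intro W _ _ _ Γ _ _ ρ Q P D Y h
  obtain ⟨Y, Γ, _, _, ρ, Q, P, D, h, hN, hC, -⟩ := h.norm
  refine hC ?_
  rcases m with _ | k
  · exact h.x1 hN
  refine Or.inl (le_trans (fun z hz => ?_) bot_le)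
  by_contra h0
  haveI := (normal_subgroupOf_iff_le_normalizer ((ds_le D _).trans h.le)).2 (norm_ds h.nD (k + 1 + 1))
  obtain ⟨z, hz, h1, h2, h3⟩ := Grp.PChain.exists_central_mod_pow h.two ((ds D (k + 1 + 1)).subgroupOf P) ⊥
    fun e => h0 (congrArg Subtype.val (mem_bot.1 (e (x := ⟨z, h.le (ds_le D _ hz)⟩) hz)))
  have h4 := isPGroup_subgroup_iff.1 h.two z z.2
  have h5 : ∀ p ∈ P, Commute p z := fun p hp => (congrArg Subtype.val
    (commutatorElement_eq_one_iff_mul_comm.1 (mem_bot.1 (h3 ⟨p, hp⟩)))).symm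
  obtain ⟨_, _, _, _, _, _, _, _, h', hN', -, hB⟩ := Cf.norm ⟨h.fa.fa_rc (h.nQ z.2) h4, h.two,
    fun p hp => norm_rc (h.nQ hp) (h5 p hp), h.le, h.nD, h.ne, fun _ _ _ _ => trivial, h.invP, h.van⟩
  refine h'.x2 ih hN' (hB ⟨z, hz, fun e => h1 (Subtype.ext (hN z z.2 (h.fa.cent_of_both (h.nQ z.2) h4 e
    fun g hg => mem_centralizer_singleton_iff.1 hg.2))), ?_, fun p hp => ?_, h.fa.cen_rc (h.nQ z.2)⟩)
  · rw [show (z : Γ) ^ 2 = 1 from congrArg Subtype.val (mem_bot.1 h2)]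
    exact one_mem _
  · rw [commutatorElement_eq_one_iff_mul_comm.2 (h5 p hp)]
    exact one_mem _

end Cfsg.Agent.Bry
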